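import Cfsg.Agent.Lib.H59.Invol.Main
import Cfsg.Agent.Lib.Chev.PoincareE8

/-! Certificates for the involution classes of type E8 (written out by a script from the root tables). -/

set_option autoImplicit false

namespace Cfsg.Agent.Lib.H59.Invol.E8

open Cfsg.Lie Cfsg.Agent.Lib.Chev

/-- A parabolic orbit. -/
def sub0_0 : OrbitCert where
  node := 7
  orbit := [[0, 0, 0, 0, 0, 0, 0, 1], [0, 0, 0, 0, 0, 0, 1, -1], [0, 0, 0, 0, 0, 1, -1, 0], [0, 0, 0, 0, 1, -1, 0, 0],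
    [0, 0, 0, 1, -1, 0, 0, 0], [0, 1, 1, -1, 0, 0, 0, 0], [0, -1, 1, 0, 0, 0, 0, 0],
    [1, 1, -1, 0, 0, 0, 0, 0], [1, -1, -1, 1, 0, 0, 0, 0], [1, 0, 0, -1, 1, 0, 0, 0],
    [1, 0, 0, 0, -1, 1, 0, 0], [1, 0, 0, 0, 0, -1, 1, 0], [1, 0, 0, 0, 0, 0, -1, 1],
    [1, 0, 0, 0, 0, 0, 0, -1]]
  parent := [(0, 7), (1, 6), (2, 5), (3, 4), (4, 3), (5, 1), (5, 2), (6, 2), (8, 3), (9, 4), (10, 5), (11, 6), (12, 7)]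
  target := [[0, 0, 0, 0, 0, 0, 1], [1, 1, 1, 1, 1, 2, 0], [2, 2, 2, 2, 3, 1, 2], [3, 3, 3, 4, 2, 3, 3],
    [4, 4, 5, 3, 4, 4, 4], [6, 7, 4, 5, 5, 5, 5], [5, 8, 6, 6, 6, 6, 6], [8, 5, 7, 7, 7, 7, 7],
    [7, 6, 9, 8, 8, 8, 8], [9, 9, 8, 10, 9, 9, 9], [10, 10, 10, 9, 11, 10, 10],
    [11, 11, 11, 11, 10, 12, 11], [12, 12, 12, 12, 12, 11, 13], [13, 13, 13, 13, 13, 13, 12]]

/-- A parabolic orbit. -/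
def sub0_1 : OrbitCert where
  node := 6
  orbit := [[0, 0, 0, 0, 0, 0, 1, 0], [0, 0, 0, 0, 0, 1, -1, 1], [0, 0, 0, 0, 1, -1, 0, 1], [0, 0, 0, 1, -1, 0, 0, 1],
    [0, 1, 1, -1, 0, 0, 0, 1], [0, -1, 1, 0, 0, 0, 0, 1], [1, 1, -1, 0, 0, 0, 0, 1],
    [1, -1, -1, 1, 0, 0, 0, 1], [1, 0, 0, -1, 1, 0, 0, 1], [1, 0, 0, 0, -1, 1, 0, 1],
    [1, 0, 0, 0, 0, -1, 1, 1], [1, 0, 0, 0, 0, 0, -1, 2]]
  parent := [(0, 6), (1, 5), (2, 4), (3, 3), (4, 1), (4, 2), (5, 2), (7, 3), (8, 4), (9, 5), (10, 6)]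
  target := [[0, 0, 0, 0, 0, 1], [1, 1, 1, 1, 2, 0], [2, 2, 2, 3, 1, 2], [3, 3, 4, 2, 3, 3], [5, 6, 3, 4, 4, 4],
    [4, 7, 5, 5, 5, 5], [7, 4, 6, 6, 6, 6], [6, 5, 8, 7, 7, 7], [8, 8, 7, 9, 8, 8], [9, 9, 9, 8, 10, 9],
    [10, 10, 10, 10, 9, 11], [11, 11, 11, 11, 11, 10]]

/-- A parabolic orbit. -/
def sub0_2 : OrbitCert where
  node := 5
  orbit := [[0, 0, 0, 0, 0, 1, 0, 0], [0, 0, 0, 0, 1, -1, 1, 0], [0, 0, 0, 1, -1, 0, 1, 0], [0, 1, 1, -1, 0, 0, 1, 0],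
    [0, -1, 1, 0, 0, 0, 1, 0], [1, 1, -1, 0, 0, 0, 1, 0], [1, -1, -1, 1, 0, 0, 1, 0],
    [1, 0, 0, -1, 1, 0, 1, 0], [1, 0, 0, 0, -1, 1, 1, 0], [1, 0, 0, 0, 0, -1, 2, 0]]
  parent := [(0, 5), (1, 4), (2, 3), (3, 1), (3, 2), (4, 2), (6, 3), (7, 4), (8, 5)]
  target := [[0, 0, 0, 0, 1], [1, 1, 1, 2, 0], [2, 2, 3, 1, 2], [4, 5, 2, 3, 3], [3, 6, 4, 4, 4], [6, 3, 5, 5, 5],
    [5, 4, 7, 6, 6], [7, 7, 6, 8, 7], [8, 8, 8, 7, 9], [9, 9, 9, 9, 8]]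

/-- A parabolic orbit. -/
def sub0_3 : OrbitCert where
  node := 1
  orbit := [[0, 1, 0, 0, 0, 0, 0, 0], [0, -1, 0, 1, 0, 0, 0, 0], [0, 0, 1, -1, 1, 0, 0, 0], [1, 0, -1, 0, 1, 0, 0, 0],
    [0, 0, 1, 0, -1, 1, 0, 0], [1, 0, -1, 1, -1, 1, 0, 0], [1, 1, 0, -1, 0, 1, 0, 0],
    [1, -1, 0, 0, 0, 1, 0, 0]]
  parent := [(0, 1), (1, 3), (2, 2), (2, 4), (3, 4), (5, 3), (6, 1)]
  target := [[1, 0, 0, 0], [0, 1, 2, 1], [2, 3, 1, 4], [3, 2, 3, 5], [4, 5, 4, 2], [5, 4, 6, 3], [7, 6, 5, 6],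
    [6, 7, 7, 7]]

/-- A parabolic orbit. -/
def sub0_4 : OrbitCert where
  node := 2
  orbit := [[0, 0, 1, 0, 0, 0, 0, 0], [1, 0, -1, 1, 0, 0, 0, 0], [1, 1, 0, -1, 1, 0, 0, 0], [1, 1, 0, 0, -1, 1, 0, 0]]
  parent := [(0, 2), (1, 3), (2, 4)]
  target := [[1, 0, 0], [0, 2, 1], [2, 1, 3], [3, 3, 2]]

/-- A parabolic orbit. -/
def sub0_5 : OrbitCert where
  node := 3
  orbit := [[0, 0, 0, 1, 0, 0, 0, 0], [0, 1, 1, -1, 1, 0, 0, 0], [0, 1, 1, 0, -1, 1, 0, 0]]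
  parent := [(0, 3), (1, 4)]
  target := [[1, 0], [0, 2], [2, 1]]

/-- A parabolic orbit. -/
def sub0_6 : OrbitCert where
  node := 4
  orbit := [[0, 0, 0, 0, 1, 0, 0, 0], [0, 0, 0, 1, -1, 1, 0, 0]]
  parent := [(0, 4)]
  target := [[1], [0]]

/-- A class of involutions. -/
def cls0 : ClassCert where
  node := 0
  reps := [[], [0, 2, 3, 1, 4, 3, 2, 0, 5, 4, 3, 1, 2, 3, 4, 5, 6, 5, 4, 3, 1, 2, 0, 3, 2, 4, 3, 1, 5, 4, 3, 2, 0],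
    [0, 2, 3, 1, 4, 3, 2, 0, 5, 4, 3, 1, 2, 3, 4, 5, 6, 5, 4, 3, 1, 2, 0, 3, 2, 4, 3, 1, 5, 4, 3, 2, 0, 7],
    [0, 2, 3, 1, 4, 3, 2, 0, 5, 4, 3, 1, 2, 3, 4, 5, 6, 5, 4, 3, 1, 2, 0, 3, 2, 4, 3, 1, 5, 4, 3, 2, 0, 7, 6],
    [0, 2, 3, 1, 4, 3, 2, 0, 5, 4, 3, 1, 2, 3, 4, 5, 6, 5, 4, 3, 1, 2, 0, 3, 2, 4, 3, 1, 5, 4, 3, 2, 0, 7, 6, 5],
    [0, 2, 3, 1, 4, 3, 2, 0, 5, 4, 3, 1, 2, 3, 4, 5, 6, 5, 4, 3, 1, 2, 0, 3, 2, 4, 3, 1, 5, 4, 3, 2, 0, 7, 6, 5, 4],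
    [0, 2, 3, 1, 4, 3, 2, 0, 5, 4, 3, 1, 2, 3, 4, 5, 6, 5, 4, 3, 1, 2, 0, 3, 2, 4, 3, 1, 5, 4, 3, 2, 0, 7, 6, 5, 4, 3],
    [0, 2, 3, 1, 4, 3, 2, 0, 5, 4, 3, 1, 2, 3, 4, 5, 6, 5, 4, 3, 1, 2, 0, 3, 2, 4, 3, 1, 5, 4, 3, 2, 0, 7, 6, 5, 4, 3, 1],
    [0, 2, 3, 1, 4, 3, 2, 0, 5, 4, 3, 1, 2, 3, 4, 5, 6, 5, 4, 3, 1, 2, 0, 3, 2, 4, 3, 1, 5, 4, 3, 2, 0, 7, 6, 5, 4, 3, 2],
    [0, 2, 3, 1, 4, 3, 2, 0, 5, 4, 3, 1, 2, 3, 4, 5, 6, 5, 4, 3, 1, 2, 0, 3, 2, 4, 3, 1, 5, 4, 3, 2, 0, 7, 6, 5, 4, 3, 1, 2],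
    [0, 2, 3, 1, 4, 3, 2, 0, 5, 4, 3, 1, 2, 3, 4, 5, 6, 5, 4, 3, 1, 2, 0, 3, 2, 4, 3, 1, 5, 4, 3, 2, 0, 7, 6, 5, 4, 3, 1, 2, 3],
    [0, 2, 3, 1, 4, 3, 2, 0, 5, 4, 3, 1, 2, 3, 4, 5, 6, 5, 4, 3, 1, 2, 0, 3, 2, 4, 3, 1, 5, 4, 3, 2, 0, 7, 6, 5, 4, 3, 1, 2, 3, 4],
    [0, 2, 3, 1, 4, 3, 2, 0, 5, 4, 3, 1, 2, 3, 4, 5, 6, 5, 4, 3, 1, 2, 0, 3, 2, 4, 3, 1, 5, 4, 3, 2, 0, 7, 6, 5, 4, 3, 1, 2, 3, 4, 5],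
    [0, 2, 3, 1, 4, 3, 2, 0, 5, 4, 3, 1, 2, 3, 4, 5, 6, 5, 4, 3, 1, 2, 0, 3, 2, 4, 3, 1, 5, 4, 3, 2, 0, 7, 6, 5, 4, 3, 1, 2, 3, 4, 5, 6],
    [0, 2, 3, 1, 4, 3, 2, 0, 5, 4, 3, 1, 2, 3, 4, 5, 6, 5, 4, 3, 1, 2, 0, 3, 2, 4, 3, 1, 5, 4, 3, 2, 0, 7, 6, 5, 4, 3, 1, 2, 3, 4, 5, 6, 7],
    [0, 2, 3, 1, 4, 3, 2, 0, 5, 4, 3, 1, 2, 3, 4, 5, 6, 5, 4, 3, 1, 2, 0, 3, 2, 4, 3, 1, 5, 4, 3, 2, 0, 7, 6, 5, 4, 3, 1, 2, 0, 3, 2, 4, 3, 1, 5, 4, 3, 2, 0, 6, 5, 4, 3, 1, 2, 3, 4, 5, 7, 6, 5, 4, 3, 1, 2, 0, 3, 2, 4, 3, 1, 5, 4, 3, 2, 0]]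
  sub := [sub0_0, sub0_1, sub0_2, sub0_3, sub0_4, sub0_5, sub0_6]
  orb := [[1, 0, 0, 0, 0, 0, 0, 0], [1, 0, 1, 0, 0, 0, 0, 0], [0, 0, 1, 1, 0, 0, 0, 0], [0, 1, 0, 1, 1, 0, 0, 0],
    [0, 1, 0, 0, 1, 0, 0, 0], [0, 1, 0, 0, 1, 1, 0, 0], [0, 1, 0, 1, 1, 1, 0, 0], [0, 1, 0, 0, 0, 1, 1, 0],
    [0, 0, 1, 1, 0, 1, 0, 0], [0, 1, 0, 1, 0, 1, 1, 0], [0, 1, 0, 0, 0, 0, 1, 1], [1, 0, 1, 0, 0, 1, 0, 0],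
    [0, 0, 1, 1, 1, 1, 1, 0], [0, 1, 0, 1, 0, 0, 1, 1], [0, 1, 0, 0, 0, 0, 0, 1], [1, 0, 0, 0, 0, 1, 0, 0],
    [1, 0, 1, 0, 1, 1, 1, 0], [0, 0, 1, 0, 1, 0, 1, 0], [0, 0, 1, 1, 1, 0, 1, 1], [0, 1, 0, 1, 0, 0, 0, 1],
    [1, 0, 0, 0, 1, 1, 1, 0], [1, 0, 1, 1, 1, 0, 1, 0], [1, 0, 1, 0, 1, 0, 1, 1], [0, 0, 1, 0, 1, 1, 1, 1],
    [0, 0, 1, 1, 1, 0, 0, 1], [1, 0, 0, 1, 1, 0, 1, 0], [1, 0, 0, 0, 1, 0, 1, 1], [1, 1, 0, 1, 0, 0, 1, 0],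
    [1, 0, 1, 1, 1, 1, 1, 1], [1, 0, 1, 0, 1, 0, 0, 1], [0, 0, 1, 0, 0, 1, 0, 1], [0, 0, 1, 0, 1, 1, 0, 1],
    [1, 1, 1, 1, 0, 0, 1, 0], [1, 0, 0, 1, 1, 1, 1, 1], [1, 0, 0, 0, 1, 0, 0, 1], [1, 1, 0, 0, 0, 0, 1, 0],
    [1, 1, 0, 1, 0, 1, 1, 1], [1, 0, 1, 1, 0, 1, 0, 1], [1, 0, 1, 1, 1, 1, 0, 1], [0, 0, 1, 0, 0, 1, 1, 1],
    [1, 1, 1, 0, 0, 0, 1, 0], [0, 1, 1, 0, 0, 0, 1, 0], [1, 1, 1, 1, 0, 1, 1, 1], [1, 0, 0, 1, 0, 1, 0, 1],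
    [1, 0, 0, 1, 1, 1, 0, 1], [1, 1, 0, 0, 0, 1, 1, 1], [1, 1, 0, 1, 1, 1, 0, 1], [1, 1, 0, 1, 0, 1, 0, 1],
    [1, 0, 1, 1, 0, 1, 1, 1], [0, 0, 1, 0, 0, 0, 1, 0], [0, 1, 1, 1, 0, 0, 1, 0], [1, 1, 1, 0, 0, 1, 1, 1],
    [0, 1, 1, 0, 0, 1, 1, 1], [1, 1, 1, 1, 1, 1, 0, 1], [1, 1, 1, 1, 0, 1, 0, 1], [1, 0, 0, 1, 0, 1, 1, 1],
    [1, 1, 0, 0, 1, 1, 0, 1], [1, 1, 0, 0, 0, 1, 0, 1], [1, 1, 0, 0, 1, 0, 0, 1], [1, 1, 0, 1, 1, 1, 1, 1],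
    [1, 0, 1, 1, 0, 0, 1, 0], [0, 0, 0, 1, 1, 0, 1, 0], [0, 1, 1, 1, 0, 1, 1, 1], [1, 1, 1, 0, 1, 1, 0, 1],
    [1, 1, 1, 0, 0, 1, 0, 1], [0, 1, 1, 0, 1, 1, 0, 1], [0, 1, 1, 0, 0, 1, 0, 1], [1, 1, 1, 0, 1, 0, 0, 1],
    [1, 1, 1, 1, 1, 1, 1, 1], [1, 0, 0, 1, 0, 0, 1, 0], [1, 1, 0, 1, 1, 0, 0, 1], [1, 1, 0, 0, 1, 1, 1, 1],
    [1, 1, 0, 0, 1, 0, 1, 1], [1, 1, 0, 1, 1, 0, 1, 0], [0, 0, 0, 0, 1, 1, 1, 0], [0, 0, 0, 1, 1, 1, 1, 1],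
    [0, 1, 1, 1, 1, 1, 0, 1], [0, 1, 1, 1, 0, 1, 0, 1], [1, 1, 1, 1, 1, 0, 0, 1], [1, 1, 1, 0, 1, 1, 1, 1],
    [0, 1, 1, 1, 1, 0, 0, 1], [0, 1, 1, 0, 1, 1, 1, 1], [1, 1, 1, 0, 1, 0, 1, 1], [1, 1, 1, 1, 1, 0, 1, 0],
    [1, 0, 1, 1, 0, 0, 0, 1], [1, 1, 0, 1, 1, 0, 1, 1], [1, 1, 0, 0, 1, 0, 1, 0], [1, 1, 0, 0, 1, 1, 1, 0],
    [0, 0, 0, 0, 0, 1, 0, 0], [0, 0, 0, 0, 1, 0, 1, 1], [0, 0, 0, 1, 0, 1, 0, 1], [0, 0, 0, 1, 1, 1, 0, 1],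
    [0, 1, 1, 0, 1, 0, 0, 1], [0, 1, 1, 1, 1, 1, 1, 1], [1, 0, 0, 1, 0, 0, 0, 1], [1, 1, 1, 1, 1, 0, 1, 1],
    [1, 1, 1, 0, 1, 0, 1, 0], [0, 0, 0, 1, 0, 0, 0, 1], [0, 1, 1, 1, 1, 0, 1, 1], [0, 1, 1, 0, 1, 0, 1, 0],
    [1, 1, 1, 0, 1, 1, 1, 0], [0, 0, 1, 0, 0, 0, 0, 1], [1, 0, 1, 1, 0, 0, 1, 1], [1, 1, 0, 1, 1, 1, 1, 0],
    [1, 1, 0, 0, 0, 1, 0, 0], [0, 0, 0, 0, 1, 0, 0, 1], [0, 0, 0, 1, 0, 1, 1, 1], [0, 1, 1, 0, 1, 0, 1, 1],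
    [0, 1, 1, 1, 1, 0, 1, 0], [1, 0, 0, 1, 0, 0, 1, 1], [1, 1, 1, 1, 1, 1, 1, 0], [0, 0, 0, 1, 0, 0, 1, 1],
    [0, 1, 1, 1, 1, 1, 1, 0], [1, 1, 1, 0, 0, 1, 0, 0], [0, 0, 1, 0, 0, 0, 1, 1], [1, 0, 1, 1, 0, 1, 1, 0],
    [1, 1, 0, 1, 0, 1, 0, 0], [0, 0, 0, 1, 0, 0, 1, 0], [0, 1, 1, 0, 1, 1, 1, 0], [1, 0, 0, 1, 0, 1, 1, 0],
    [1, 1, 1, 1, 0, 1, 0, 0], [0, 0, 0, 1, 0, 1, 1, 0], [0, 1, 1, 1, 0, 1, 0, 0], [0, 0, 1, 0, 0, 1, 1, 0],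
    [1, 0, 1, 1, 1, 1, 0, 0], [0, 1, 1, 0, 0, 1, 0, 0], [1, 0, 0, 1, 1, 1, 0, 0], [0, 0, 0, 1, 1, 1, 0, 0],
    [0, 0, 1, 0, 1, 1, 0, 0], [1, 0, 1, 0, 1, 0, 0, 0], [1, 0, 0, 0, 1, 0, 0, 0], [0, 0, 0, 0, 1, 0, 0, 0],
    [0, 0, 1, 1, 1, 0, 0, 0], [0, 1, 0, 1, 0, 0, 0, 0], [0, 1, 0, 0, 0, 0, 0, 0]]
  parent := [(0, 0), (1, 2), (2, 3), (3, 1), (3, 4), (4, 4), (5, 5), (6, 3), (6, 5), (7, 6), (8, 2), (8, 5), (9, 6),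
    (10, 7), (11, 0), (11, 5), (12, 4), (12, 6), (13, 7), (15, 5), (16, 4), (16, 6), (17, 6), (18, 7),
    (20, 4), (20, 6), (21, 3), (21, 6), (22, 7), (23, 5), (23, 7), (25, 3), (25, 6), (26, 7), (27, 1),
    (27, 6), (28, 5), (28, 7), (30, 7), (32, 1), (32, 2), (32, 6), (33, 5), (33, 7), (35, 6), (36, 5),
    (36, 7), (37, 7), (39, 6), (40, 2), (40, 6), (41, 6), (42, 5), (42, 7), (43, 7), (45, 5), (45, 7),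
    (46, 4), (46, 7), (48, 6), (50, 3), (50, 6), (51, 5), (51, 7), (52, 5), (52, 7), (53, 4), (53, 7),
    (55, 6), (56, 4), (56, 7), (58, 7), (59, 6), (61, 4), (61, 6), (62, 5), (62, 7), (63, 4), (63, 7),
    (65, 4), (65, 7), (67, 7), (68, 6), (70, 3), (70, 7), (71, 6), (72, 6), (74, 5), (74, 6), (75, 5),
    (75, 7), (76, 4), (76, 7), (78, 3), (78, 7), (79, 6), (80, 3), (80, 7), (81, 6), (82, 6), (84, 2),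
    (84, 7), (85, 6), (87, 5), (89, 7), (90, 7), (92, 7), (93, 6), (94, 7), (95, 6), (97, 7), (98, 6),
    (100, 5), (101, 7), (102, 6), (103, 5), (106, 6), (107, 6), (109, 6), (110, 5), (111, 6), (112, 5),
    (114, 6), (115, 5), (118, 5), (119, 5), (121, 5), (123, 5), (124, 4), (126, 4), (127, 4), (128, 4),
    (132, 3), (133, 1)]
  target := [[1, 0, 0, 0, 0, 0, 0, 0], [0, 1, 2, 1, 1, 1, 1, 1], [2, 2, 1, 3, 2, 2, 2, 2], [3, 4, 3, 2, 5, 3, 3, 3],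
    [4, 3, 4, 4, 6, 4, 4, 4], [5, 6, 5, 5, 3, 7, 5, 5], [6, 5, 6, 8, 4, 9, 6, 6],
    [7, 9, 7, 7, 7, 5, 10, 7], [8, 8, 11, 6, 8, 12, 8, 8], [9, 7, 9, 12, 9, 6, 13, 9],
    [10, 13, 10, 10, 10, 10, 7, 14], [15, 11, 8, 11, 11, 16, 11, 11], [12, 12, 16, 9, 17, 8, 18, 12],
    [13, 10, 13, 18, 13, 13, 9, 19], [14, 19, 14, 14, 14, 14, 14, 10], [11, 15, 15, 15, 15, 20, 15, 15],
    [20, 16, 12, 16, 21, 11, 22, 16], [17, 17, 21, 17, 12, 17, 23, 17], [18, 18, 22, 13, 23, 18, 12, 24],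
    [19, 14, 19, 24, 19, 19, 19, 13], [16, 20, 20, 20, 25, 15, 26, 20], [25, 21, 17, 27, 16, 21, 28, 21],
    [26, 22, 18, 22, 28, 22, 16, 29], [23, 23, 28, 23, 18, 30, 17, 31], [24, 24, 29, 19, 31, 24, 24, 18],
    [21, 25, 25, 32, 20, 25, 33, 25], [22, 26, 26, 26, 33, 26, 20, 34], [32, 35, 27, 21, 27, 27, 36, 27],
    [33, 28, 23, 36, 22, 37, 21, 38], [34, 29, 24, 29, 38, 29, 29, 22], [30, 30, 37, 30, 30, 23, 30, 39],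
    [31, 31, 38, 31, 24, 39, 31, 23], [27, 40, 41, 25, 32, 32, 42, 32], [28, 33, 33, 42, 26, 43, 25, 44],
    [29, 34, 34, 34, 44, 34, 34, 26], [40, 27, 35, 35, 35, 35, 45, 35], [42, 45, 36, 28, 36, 46, 27, 47],
    [43, 37, 30, 46, 37, 28, 37, 48], [44, 38, 31, 47, 29, 48, 38, 28], [39, 39, 48, 39, 39, 31, 49, 30],
    [35, 32, 50, 40, 40, 40, 51, 40], [41, 50, 32, 41, 41, 41, 52, 41], [36, 51, 52, 33, 42, 53, 32, 54],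
    [37, 43, 43, 53, 43, 33, 43, 55], [38, 44, 44, 54, 34, 55, 44, 33], [51, 36, 45, 45, 45, 56, 35, 57],
    [53, 56, 46, 37, 58, 36, 46, 59], [54, 57, 47, 38, 47, 59, 47, 36], [55, 48, 39, 59, 48, 38, 60, 37],
    [49, 49, 60, 49, 49, 49, 39, 49], [50, 41, 40, 61, 50, 50, 62, 50], [45, 42, 62, 51, 51, 63, 40, 64],
    [52, 62, 42, 52, 52, 65, 41, 66], [46, 63, 65, 43, 67, 42, 53, 68], [47, 64, 66, 44, 54, 68, 54, 42],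
    [48, 55, 55, 68, 55, 44, 69, 43], [63, 46, 56, 56, 70, 45, 56, 71], [64, 47, 57, 57, 57, 71, 57, 45],
    [67, 70, 58, 58, 46, 58, 58, 72], [68, 71, 59, 48, 72, 47, 73, 46], [69, 60, 49, 73, 60, 60, 48, 60],
    [61, 61, 61, 50, 74, 61, 75, 61], [62, 52, 51, 75, 62, 76, 50, 77], [56, 53, 76, 63, 78, 51, 63, 79],
    [57, 54, 77, 64, 64, 79, 64, 51], [65, 76, 53, 65, 80, 52, 65, 81], [66, 77, 54, 66, 66, 81, 66, 52],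
    [58, 78, 80, 67, 53, 67, 67, 82], [59, 79, 81, 55, 82, 54, 83, 53], [60, 69, 69, 83, 69, 69, 55, 69],
    [78, 58, 70, 84, 56, 70, 70, 85], [79, 59, 71, 71, 85, 57, 86, 56], [82, 85, 72, 72, 59, 72, 87, 58],
    [83, 86, 73, 60, 87, 73, 59, 73], [74, 74, 74, 74, 61, 88, 89, 74], [75, 75, 75, 62, 89, 90, 61, 91],
    [76, 65, 63, 90, 92, 62, 76, 93], [77, 66, 64, 91, 77, 93, 77, 62], [70, 67, 92, 94, 63, 78, 78, 95],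
    [71, 68, 93, 79, 95, 64, 96, 63], [80, 92, 67, 97, 65, 80, 80, 98], [81, 93, 68, 81, 98, 66, 99, 65],
    [72, 95, 98, 82, 68, 82, 100, 67], [73, 96, 99, 69, 100, 83, 68, 83],
    [94, 84, 101, 70, 84, 84, 84, 102], [95, 72, 85, 102, 71, 85, 103, 70],
    [96, 73, 86, 86, 103, 86, 71, 86], [100, 103, 87, 87, 73, 104, 72, 87],
    [88, 88, 88, 88, 88, 74, 88, 88], [89, 89, 89, 89, 75, 89, 74, 105], [90, 90, 90, 76, 90, 75, 90, 106],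
    [91, 91, 91, 77, 105, 106, 91, 75], [92, 80, 78, 92, 76, 92, 92, 107],
    [93, 81, 79, 106, 107, 77, 108, 76], [84, 94, 94, 78, 94, 94, 94, 109],
    [85, 82, 107, 109, 79, 95, 110, 78], [86, 83, 108, 96, 110, 96, 79, 96],
    [97, 97, 97, 80, 97, 97, 97, 111], [98, 107, 82, 111, 81, 98, 112, 80],
    [99, 108, 83, 99, 112, 99, 81, 99], [87, 110, 112, 100, 83, 113, 82, 100],
    [101, 101, 84, 101, 101, 101, 101, 114], [109, 102, 114, 85, 102, 102, 115, 84],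
    [110, 87, 103, 115, 86, 116, 85, 103], [113, 116, 104, 104, 104, 87, 104, 104],
    [105, 105, 105, 105, 91, 105, 105, 89], [106, 106, 106, 93, 106, 91, 117, 90],
    [107, 98, 95, 107, 93, 107, 118, 92], [108, 99, 96, 117, 118, 108, 93, 108],
    [102, 109, 109, 95, 109, 109, 119, 94], [103, 100, 118, 119, 96, 120, 95, 110],
    [111, 111, 111, 98, 111, 111, 121, 97], [112, 118, 100, 121, 99, 122, 98, 112],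
    [104, 120, 122, 113, 113, 100, 113, 113], [114, 114, 102, 114, 114, 114, 123, 101],
    [119, 115, 123, 103, 115, 124, 102, 115], [120, 104, 116, 124, 116, 103, 116, 116],
    [117, 117, 117, 108, 117, 117, 106, 117], [118, 112, 110, 118, 108, 125, 107, 118],
    [115, 119, 119, 110, 119, 126, 109, 119], [116, 113, 125, 126, 120, 110, 120, 120],
    [121, 121, 121, 112, 121, 127, 111, 121], [122, 125, 113, 127, 122, 112, 122, 122],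
    [123, 123, 115, 123, 123, 128, 114, 123], [126, 124, 128, 116, 129, 115, 124, 124],
    [125, 122, 120, 125, 125, 118, 125, 125], [124, 126, 126, 120, 130, 119, 126, 126],
    [127, 127, 127, 122, 131, 121, 127, 127], [128, 128, 124, 128, 132, 123, 128, 128],
    [130, 129, 132, 129, 124, 129, 129, 129], [129, 130, 130, 130, 126, 130, 130, 130],
    [131, 131, 131, 131, 127, 131, 131, 131], [132, 132, 129, 133, 128, 132, 132, 132],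
    [133, 134, 133, 132, 133, 133, 133, 133], [134, 133, 134, 134, 134, 134, 134, 134]]
  neg := [0, 13, 0, 0, 0, 0, 0, 0, 0, 0, 0, 0, 0, 0, 0, 6]

theorem cls0_reps : chkReps chevE8 E8.cert cls0 = true := by decide +kernel

theorem cls0_orb : chkOrb chevE8 E8.cert cls0 = true := by decide +kernel

theorem cls0_count : chkCount E8.orbits cls0 = true := by decide +kernel

theorem cls0_poly : chkPolyC chevE8 E8.cert cls0 [8, 2, 4, 6, 8, 10, 12, 14] = true := by decide +kernel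

theorem cls0_even : evenCount chevE8 E8.cert cls0.node = 56 := by decide +kernel

/-- A parabolic orbit. -/
def sub1_0 : OrbitCert where
  node := 6
  orbit := [[0, 0, 0, 0, 0, 0, 1, 0], [0, 0, 0, 0, 0, 1, -1, 1], [0, 0, 0, 0, 1, -1, 0, 1], [0, 0, 0, 1, -1, 0, 0, 1],
    [0, 1, 1, -1, 0, 0, 0, 1], [0, -1, 1, 0, 0, 0, 0, 1], [1, 1, -1, 0, 0, 0, 0, 1],
    [1, -1, -1, 1, 0, 0, 0, 1], [-1, 1, 0, 0, 0, 0, 0, 1], [-1, -1, 0, 1, 0, 0, 0, 1],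
    [1, 0, 0, -1, 1, 0, 0, 1], [-1, 0, 1, -1, 1, 0, 0, 1], [1, 0, 0, 0, -1, 1, 0, 1],
    [0, 0, -1, 0, 1, 0, 0, 1], [-1, 0, 1, 0, -1, 1, 0, 1], [1, 0, 0, 0, 0, -1, 1, 1],
    [0, 0, -1, 1, -1, 1, 0, 1], [-1, 0, 1, 0, 0, -1, 1, 1], [1, 0, 0, 0, 0, 0, -1, 2],
    [0, 1, 0, -1, 0, 1, 0, 1], [0, 0, -1, 1, 0, -1, 1, 1], [-1, 0, 1, 0, 0, 0, -1, 2],
    [0, -1, 0, 0, 0, 1, 0, 1], [0, 1, 0, -1, 1, -1, 1, 1], [0, 0, -1, 1, 0, 0, -1, 2],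
    [0, -1, 0, 0, 1, -1, 1, 1], [0, 1, 0, 0, -1, 0, 1, 1], [0, 1, 0, -1, 1, 0, -1, 2],
    [0, -1, 0, 1, -1, 0, 1, 1], [0, -1, 0, 0, 1, 0, -1, 2], [0, 1, 0, 0, -1, 1, -1, 2],
    [0, 0, 1, -1, 0, 0, 1, 1], [0, -1, 0, 1, -1, 1, -1, 2], [0, 1, 0, 0, 0, -1, 0, 2],
    [1, 0, -1, 0, 0, 0, 1, 1], [0, 0, 1, -1, 0, 1, -1, 2], [0, -1, 0, 1, 0, -1, 0, 2],
    [-1, 0, 0, 0, 0, 0, 1, 1], [1, 0, -1, 0, 0, 1, -1, 2], [0, 0, 1, -1, 1, -1, 0, 2],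
    [-1, 0, 0, 0, 0, 1, -1, 2], [1, 0, -1, 0, 1, -1, 0, 2], [0, 0, 1, 0, -1, 0, 0, 2],
    [-1, 0, 0, 0, 1, -1, 0, 2], [1, 0, -1, 1, -1, 0, 0, 2], [-1, 0, 0, 1, -1, 0, 0, 2],
    [1, 1, 0, -1, 0, 0, 0, 2], [-1, 1, 1, -1, 0, 0, 0, 2], [1, -1, 0, 0, 0, 0, 0, 2],
    [-1, -1, 1, 0, 0, 0, 0, 2], [0, 1, -1, 0, 0, 0, 0, 2], [0, -1, -1, 1, 0, 0, 0, 2],
    [0, 0, 0, -1, 1, 0, 0, 2], [0, 0, 0, 0, -1, 1, 0, 2], [0, 0, 0, 0, 0, -1, 1, 2],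
    [0, 0, 0, 0, 0, 0, -1, 3]]
  parent := [(0, 6), (1, 5), (2, 4), (3, 3), (4, 1), (4, 2), (5, 2), (6, 0), (7, 0), (7, 3), (9, 3), (10, 4), (11, 2),
    (11, 4), (12, 5), (13, 4), (14, 5), (15, 6), (16, 3), (16, 5), (17, 6), (19, 1), (19, 5), (20, 6),
    (22, 5), (23, 4), (23, 6), (25, 4), (25, 6), (26, 6), (28, 3), (28, 6), (30, 5), (31, 2), (31, 6),
    (32, 5), (34, 0), (34, 6), (35, 5), (37, 6), (38, 5), (39, 4), (40, 5), (41, 4), (43, 4), (44, 3),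
    (45, 3), (46, 1), (47, 1), (47, 2), (49, 2), (51, 3), (52, 4), (53, 5), (54, 6)]
  target := [[0, 0, 0, 0, 0, 0, 1], [1, 1, 1, 1, 1, 2, 0], [2, 2, 2, 2, 3, 1, 2], [3, 3, 3, 4, 2, 3, 3],
    [4, 5, 6, 3, 4, 4, 4], [5, 4, 7, 5, 5, 5, 5], [8, 7, 4, 6, 6, 6, 6], [9, 6, 5, 10, 7, 7, 7],
    [6, 9, 8, 8, 8, 8, 8], [7, 8, 9, 11, 9, 9, 9], [11, 10, 10, 7, 12, 10, 10],
    [10, 11, 13, 9, 14, 11, 11], [14, 12, 12, 12, 10, 15, 12], [13, 13, 11, 13, 16, 13, 13],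
    [12, 14, 16, 14, 11, 17, 14], [17, 15, 15, 15, 15, 12, 18], [16, 16, 14, 19, 13, 20, 16],
    [15, 17, 20, 17, 17, 14, 21], [21, 18, 18, 18, 18, 18, 15], [19, 22, 19, 16, 19, 23, 19],
    [20, 20, 17, 23, 20, 16, 24], [18, 21, 24, 21, 21, 21, 17], [22, 19, 22, 22, 22, 25, 22],
    [23, 25, 23, 20, 26, 19, 27], [24, 24, 21, 27, 24, 24, 20], [25, 23, 25, 25, 28, 22, 29],
    [26, 28, 26, 26, 23, 26, 30], [27, 29, 27, 24, 30, 27, 23], [28, 26, 28, 31, 25, 28, 32],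
    [29, 27, 29, 29, 32, 29, 25], [30, 32, 30, 30, 27, 33, 26], [31, 31, 34, 28, 31, 31, 35],
    [32, 30, 32, 35, 29, 36, 28], [33, 36, 33, 33, 33, 30, 33], [37, 34, 31, 34, 34, 34, 38],
    [35, 35, 38, 32, 35, 39, 31], [36, 33, 36, 39, 36, 32, 36], [34, 37, 37, 37, 37, 37, 40],
    [40, 38, 35, 38, 38, 41, 34], [39, 39, 41, 36, 42, 35, 39], [38, 40, 40, 40, 40, 43, 37],
    [43, 41, 39, 41, 44, 38, 41], [42, 42, 44, 42, 39, 42, 42], [41, 43, 43, 43, 45, 40, 43],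
    [45, 44, 42, 46, 41, 44, 44], [44, 45, 45, 47, 43, 45, 45], [47, 48, 46, 44, 46, 46, 46],
    [46, 49, 50, 45, 47, 47, 47], [49, 46, 48, 48, 48, 48, 48], [48, 47, 51, 49, 49, 49, 49],
    [50, 51, 47, 50, 50, 50, 50], [51, 50, 49, 52, 51, 51, 51], [52, 52, 52, 51, 53, 52, 52],
    [53, 53, 53, 53, 52, 54, 53], [54, 54, 54, 54, 54, 53, 55], [55, 55, 55, 55, 55, 55, 54]]

/-- A parabolic orbit. -/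
def sub1_1 : OrbitCert where
  node := 0
  orbit := [[1, 0, 0, 0, 0, 0, 0, 0], [-1, 0, 1, 0, 0, 0, 0, 0], [0, 0, -1, 1, 0, 0, 0, 0], [0, 1, 0, -1, 1, 0, 0, 0],
    [0, -1, 0, 0, 1, 0, 0, 0], [0, 1, 0, 0, -1, 1, 0, 0], [0, -1, 0, 1, -1, 1, 0, 0],
    [0, 1, 0, 0, 0, -1, 1, 0], [0, 0, 1, -1, 0, 1, 0, 0], [0, -1, 0, 1, 0, -1, 1, 0],
    [1, 0, -1, 0, 0, 1, 0, 0], [0, 0, 1, -1, 1, -1, 1, 0], [-1, 0, 0, 0, 0, 1, 0, 0],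
    [1, 0, -1, 0, 1, -1, 1, 0], [0, 0, 1, 0, -1, 0, 1, 0], [-1, 0, 0, 0, 1, -1, 1, 0],
    [1, 0, -1, 1, -1, 0, 1, 0], [-1, 0, 0, 1, -1, 0, 1, 0], [1, 1, 0, -1, 0, 0, 1, 0],
    [-1, 1, 1, -1, 0, 0, 1, 0], [1, -1, 0, 0, 0, 0, 1, 0], [-1, -1, 1, 0, 0, 0, 1, 0],
    [0, 1, -1, 0, 0, 0, 1, 0], [0, -1, -1, 1, 0, 0, 1, 0], [0, 0, 0, -1, 1, 0, 1, 0],
    [0, 0, 0, 0, -1, 1, 1, 0], [0, 0, 0, 0, 0, -1, 2, 0]]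
  parent := [(0, 0), (1, 2), (2, 3), (3, 1), (3, 4), (4, 4), (5, 5), (6, 3), (6, 5), (8, 2), (8, 5), (10, 0), (10, 5),
    (11, 4), (12, 5), (13, 4), (15, 4), (16, 3), (17, 3), (18, 1), (19, 1), (19, 2), (21, 2), (23, 3),
    (24, 4), (25, 5)]
  target := [[1, 0, 0, 0, 0, 0], [0, 1, 2, 1, 1, 1], [2, 2, 1, 3, 2, 2], [3, 4, 3, 2, 5, 3], [4, 3, 4, 4, 6, 4],
    [5, 6, 5, 5, 3, 7], [6, 5, 6, 8, 4, 9], [7, 9, 7, 7, 7, 5], [8, 8, 10, 6, 8, 11], [9, 7, 9, 11, 9, 6],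
    [12, 10, 8, 10, 10, 13], [11, 11, 13, 9, 14, 8], [10, 12, 12, 12, 12, 15], [15, 13, 11, 13, 16, 10],
    [14, 14, 16, 14, 11, 14], [13, 15, 15, 15, 17, 12], [17, 16, 14, 18, 13, 16], [16, 17, 17, 19, 15, 17],
    [19, 20, 18, 16, 18, 18], [18, 21, 22, 17, 19, 19], [21, 18, 20, 20, 20, 20], [20, 19, 23, 21, 21, 21],
    [22, 23, 19, 22, 22, 22], [23, 22, 21, 24, 23, 23], [24, 24, 24, 23, 25, 24], [25, 25, 25, 25, 24, 26],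
    [26, 26, 26, 26, 26, 25]]

/-- A parabolic orbit. -/
def sub1_2 : OrbitCert where
  node := 5
  orbit := [[0, 0, 0, 0, 0, 1, 0, 0], [0, 0, 0, 0, 1, -1, 1, 0], [0, 0, 0, 1, -1, 0, 1, 0], [0, 1, 1, -1, 0, 0, 1, 0],
    [0, -1, 1, 0, 0, 0, 1, 0], [1, 1, -1, 0, 0, 0, 1, 0], [1, -1, -1, 1, 0, 0, 1, 0],
    [1, 0, 0, -1, 1, 0, 1, 0], [1, 0, 0, 0, -1, 1, 1, 0], [1, 0, 0, 0, 0, -1, 2, 0]]
  parent := [(0, 5), (1, 4), (2, 3), (3, 1), (3, 2), (4, 2), (6, 3), (7, 4), (8, 5)]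
  target := [[0, 0, 0, 0, 1], [1, 1, 1, 2, 0], [2, 2, 3, 1, 2], [4, 5, 2, 3, 3], [3, 6, 4, 4, 4], [6, 3, 5, 5, 5],
    [5, 4, 7, 6, 6], [7, 7, 6, 8, 7], [8, 8, 8, 7, 9], [9, 9, 9, 9, 8]]

/-- A parabolic orbit. -/
def sub1_3 : OrbitCert where
  node := 1
  orbit := [[0, 1, 0, 0, 0, 0, 0, 0], [0, -1, 0, 1, 0, 0, 0, 0], [0, 0, 1, -1, 1, 0, 0, 0], [1, 0, -1, 0, 1, 0, 0, 0],
    [0, 0, 1, 0, -1, 1, 0, 0], [1, 0, -1, 1, -1, 1, 0, 0], [1, 1, 0, -1, 0, 1, 0, 0],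
    [1, -1, 0, 0, 0, 1, 0, 0]]
  parent := [(0, 1), (1, 3), (2, 2), (2, 4), (3, 4), (5, 3), (6, 1)]
  target := [[1, 0, 0, 0], [0, 1, 2, 1], [2, 3, 1, 4], [3, 2, 3, 5], [4, 5, 4, 2], [5, 4, 6, 3], [7, 6, 5, 6],
    [6, 7, 7, 7]]

/-- A parabolic orbit. -/
def sub1_4 : OrbitCert where
  node := 2
  orbit := [[0, 0, 1, 0, 0, 0, 0, 0], [1, 0, -1, 1, 0, 0, 0, 0], [1, 1, 0, -1, 1, 0, 0, 0], [1, 1, 0, 0, -1, 1, 0, 0]]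
  parent := [(0, 2), (1, 3), (2, 4)]
  target := [[1, 0, 0], [0, 2, 1], [2, 1, 3], [3, 3, 2]]

/-- A parabolic orbit. -/
def sub1_5 : OrbitCert where
  node := 3
  orbit := [[0, 0, 0, 1, 0, 0, 0, 0], [0, 1, 1, -1, 1, 0, 0, 0], [0, 1, 1, 0, -1, 1, 0, 0]]
  parent := [(0, 3), (1, 4)]
  target := [[1, 0], [0, 2], [2, 1]]

/-- A parabolic orbit. -/
def sub1_6 : OrbitCert where
  node := 4
  orbit := [[0, 0, 0, 0, 1, 0, 0, 0], [0, 0, 0, 1, -1, 1, 0, 0]]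
  parent := [(0, 4)]
  target := [[1], [0]]

/-- A class of involutions. -/
def cls1 : ClassCert where
  node := 7
  reps := [[],
    [7, 6, 5, 4, 3, 1, 2, 0, 3, 2, 4, 3, 1, 5, 4, 3, 2, 0, 6, 5, 4, 3, 1, 2, 3, 4, 5, 6, 7, 6, 5, 4, 3, 1, 2, 0, 3, 2, 4, 3, 1, 5, 4, 3, 2, 0, 6, 5, 4, 3, 1, 2, 3, 4, 5, 6, 7]]
  sub := [sub1_0, sub1_1, sub1_2, sub1_3, sub1_4, sub1_5, sub1_6]
  orb := [[0, 0, 0, 0, 0, 0, 0, 1], [0, 0, 0, 0, 0, 0, 1, 1], [0, 0, 0, 0, 0, 1, 1, 0], [0, 0, 0, 0, 1, 1, 0, 0],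
    [0, 0, 0, 1, 1, 0, 0, 0], [0, 1, 1, 1, 0, 0, 0, 0], [0, 1, 1, 0, 0, 0, 0, 0], [1, 1, 1, 0, 0, 0, 0, 0],
    [1, 1, 1, 1, 0, 0, 0, 0], [1, 1, 0, 0, 0, 0, 0, 0], [1, 1, 0, 1, 0, 0, 0, 0], [1, 0, 0, 1, 1, 0, 0, 0],
    [1, 0, 1, 1, 1, 0, 0, 0], [1, 0, 0, 0, 1, 1, 0, 0], [0, 0, 1, 0, 1, 0, 0, 0], [1, 0, 1, 0, 1, 1, 0, 0],
    [1, 0, 0, 0, 0, 1, 1, 0], [0, 0, 1, 1, 1, 1, 0, 0], [1, 0, 1, 0, 0, 1, 1, 0], [1, 0, 0, 0, 0, 0, 1, 1],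
    [0, 1, 0, 1, 0, 1, 0, 0], [0, 0, 1, 1, 0, 1, 1, 0], [1, 0, 1, 0, 0, 0, 1, 1], [1, 0, 0, 0, 0, 0, 0, 1],
    [0, 1, 0, 0, 0, 1, 0, 0], [0, 1, 0, 1, 1, 1, 1, 0], [0, 0, 1, 1, 0, 0, 1, 1], [1, 0, 1, 0, 0, 0, 0, 1],
    [0, 1, 0, 0, 1, 1, 1, 0], [0, 1, 0, 0, 1, 0, 1, 0], [0, 1, 0, 1, 1, 0, 1, 1], [0, 0, 1, 1, 0, 0, 0, 1],
    [0, 1, 0, 1, 1, 0, 1, 0], [0, 1, 0, 0, 1, 0, 1, 1], [0, 1, 0, 0, 1, 1, 1, 1], [0, 1, 0, 1, 1, 0, 0, 1],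
    [0, 0, 1, 1, 0, 0, 1, 0], [0, 1, 0, 1, 1, 1, 1, 1], [0, 1, 0, 0, 1, 0, 0, 1], [0, 1, 0, 0, 0, 1, 0, 1],
    [0, 1, 0, 0, 1, 1, 0, 1], [1, 0, 1, 0, 0, 0, 1, 0], [0, 0, 1, 1, 0, 1, 1, 1], [0, 1, 0, 1, 0, 1, 0, 1],
    [0, 1, 0, 1, 1, 1, 0, 1], [0, 1, 0, 0, 0, 1, 1, 1], [1, 0, 0, 0, 0, 0, 1, 0], [1, 0, 1, 0, 0, 1, 1, 1],
    [0, 0, 1, 1, 1, 1, 0, 1], [0, 0, 1, 1, 0, 1, 0, 1], [0, 1, 0, 1, 0, 1, 1, 1], [0, 1, 0, 0, 0, 0, 1, 0],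
    [1, 0, 0, 0, 0, 1, 1, 1], [1, 0, 1, 0, 1, 1, 0, 1], [1, 0, 1, 0, 0, 1, 0, 1], [0, 0, 1, 0, 1, 0, 0, 1],
    [0, 0, 1, 1, 1, 1, 1, 1], [0, 1, 0, 1, 0, 0, 1, 0], [1, 0, 0, 0, 1, 1, 0, 1], [1, 0, 0, 0, 0, 1, 0, 1],
    [1, 0, 1, 1, 1, 0, 0, 1], [1, 0, 1, 0, 1, 1, 1, 1], [0, 0, 1, 0, 1, 0, 1, 1], [0, 0, 1, 1, 1, 0, 1, 0],
    [1, 0, 0, 1, 1, 0, 0, 1], [1, 0, 0, 0, 1, 1, 1, 1], [1, 1, 0, 1, 0, 0, 0, 1], [1, 0, 1, 1, 1, 0, 1, 1],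
    [1, 0, 1, 0, 1, 0, 1, 0], [0, 0, 1, 0, 1, 1, 1, 0], [1, 1, 1, 1, 0, 0, 0, 1], [1, 0, 0, 1, 1, 0, 1, 1],
    [1, 0, 0, 0, 1, 0, 1, 0], [1, 1, 0, 0, 0, 0, 0, 1], [1, 1, 0, 1, 0, 0, 1, 1], [1, 0, 1, 1, 1, 1, 1, 0],
    [0, 0, 1, 0, 0, 1, 0, 0], [1, 1, 1, 0, 0, 0, 0, 1], [0, 1, 1, 0, 0, 0, 0, 1], [1, 1, 1, 1, 0, 0, 1, 1],
    [1, 0, 0, 1, 1, 1, 1, 0], [1, 1, 0, 0, 0, 0, 1, 1], [1, 1, 0, 1, 0, 1, 1, 0], [1, 0, 1, 1, 0, 1, 0, 0],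
    [0, 1, 1, 1, 0, 0, 0, 1], [1, 1, 1, 0, 0, 0, 1, 1], [0, 1, 1, 0, 0, 0, 1, 1], [1, 1, 1, 1, 0, 1, 1, 0],
    [1, 0, 0, 1, 0, 1, 0, 0], [1, 1, 0, 0, 0, 1, 1, 0], [1, 1, 0, 1, 1, 1, 0, 0], [0, 0, 0, 1, 1, 0, 0, 1],
    [0, 1, 1, 1, 0, 0, 1, 1], [1, 1, 1, 0, 0, 1, 1, 0], [0, 1, 1, 0, 0, 1, 1, 0], [1, 1, 1, 1, 1, 1, 0, 0],
    [1, 1, 0, 0, 1, 1, 0, 0], [1, 1, 0, 0, 1, 0, 0, 0], [0, 0, 0, 0, 1, 1, 0, 1], [0, 0, 0, 1, 1, 0, 1, 1],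
    [0, 1, 1, 1, 0, 1, 1, 0], [1, 1, 1, 0, 1, 1, 0, 0], [0, 1, 1, 0, 1, 1, 0, 0], [1, 1, 1, 0, 1, 0, 0, 0],
    [1, 1, 0, 1, 1, 0, 0, 0], [0, 0, 0, 0, 0, 1, 1, 1], [0, 0, 0, 0, 1, 1, 1, 1], [0, 0, 0, 1, 1, 1, 1, 0],
    [0, 1, 1, 1, 1, 1, 0, 0], [1, 1, 1, 1, 1, 0, 0, 0], [0, 1, 1, 1, 1, 0, 0, 0], [1, 0, 1, 1, 0, 0, 0, 0],
    [0, 0, 0, 0, 0, 0, 1, 0], [0, 0, 0, 0, 0, 1, 0, 1], [0, 0, 0, 0, 1, 0, 1, 0], [0, 0, 0, 1, 0, 1, 0, 0],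
    [0, 1, 1, 0, 1, 0, 0, 0], [1, 0, 0, 1, 0, 0, 0, 0], [0, 0, 0, 1, 0, 0, 0, 0], [0, 0, 1, 0, 0, 0, 0, 0]]
  parent := [(0, 7), (1, 6), (2, 5), (3, 4), (4, 3), (5, 1), (5, 2), (6, 2), (7, 0), (8, 0), (8, 3), (10, 3), (11, 4),
    (12, 2), (12, 4), (13, 5), (14, 4), (15, 5), (16, 6), (17, 3), (17, 5), (18, 6), (19, 7), (20, 1),
    (20, 5), (21, 6), (22, 7), (24, 5), (25, 4), (25, 6), (26, 7), (28, 4), (28, 6), (29, 6), (30, 7),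
    (32, 3), (32, 6), (33, 7), (34, 5), (34, 7), (36, 2), (36, 6), (37, 5), (37, 7), (39, 7), (41, 0),
    (41, 6), (42, 5), (42, 7), (43, 7), (45, 6), (46, 6), (47, 5), (47, 7), (48, 4), (48, 7), (50, 6),
    (52, 5), (52, 7), (53, 4), (53, 7), (55, 7), (56, 6), (58, 4), (58, 7), (60, 3), (60, 7), (61, 6),
    (62, 6), (64, 3), (64, 7), (65, 6), (66, 1), (66, 7), (67, 6), (69, 5), (70, 1), (70, 2), (70, 7),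
    (71, 6), (73, 7), (74, 6), (75, 5), (77, 2), (77, 7), (78, 7), (79, 6), (80, 5), (81, 6), (82, 5),
    (84, 3), (84, 7), (85, 6), (86, 6), (87, 5), (89, 5), (90, 4), (91, 4), (91, 7), (92, 6), (93, 5),
    (94, 5), (95, 4), (96, 4), (98, 5), (98, 7), (99, 6), (100, 5), (101, 4), (102, 4), (104, 3), (105, 6),
    (105, 7), (106, 6), (107, 5), (108, 4), (109, 3), (110, 3), (111, 2)]
  target := [[0, 0, 0, 0, 0, 0, 0, 1], [1, 1, 1, 1, 1, 1, 2, 0], [2, 2, 2, 2, 2, 3, 1, 2], [3, 3, 3, 3, 4, 2, 3, 3],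
    [4, 4, 4, 5, 3, 4, 4, 4], [5, 6, 7, 4, 5, 5, 5, 5], [6, 5, 8, 6, 6, 6, 6, 6], [9, 8, 5, 7, 7, 7, 7, 7],
    [10, 7, 6, 11, 8, 8, 8, 8], [7, 10, 9, 9, 9, 9, 9, 9], [8, 9, 10, 12, 10, 10, 10, 10],
    [12, 11, 11, 8, 13, 11, 11, 11], [11, 12, 14, 10, 15, 12, 12, 12], [15, 13, 13, 13, 11, 16, 13, 13],
    [14, 14, 12, 14, 17, 14, 14, 14], [13, 15, 17, 15, 12, 18, 15, 15], [18, 16, 16, 16, 16, 13, 19, 16],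
    [17, 17, 15, 20, 14, 21, 17, 17], [16, 18, 21, 18, 18, 15, 22, 18], [22, 19, 19, 19, 19, 19, 16, 23],
    [20, 24, 20, 17, 20, 25, 20, 20], [21, 21, 18, 25, 21, 17, 26, 21], [19, 22, 26, 22, 22, 22, 18, 27],
    [27, 23, 23, 23, 23, 23, 23, 19], [24, 20, 24, 24, 24, 28, 24, 24], [25, 28, 25, 21, 29, 20, 30, 25],
    [26, 26, 22, 30, 26, 26, 21, 31], [23, 27, 31, 27, 27, 27, 27, 22], [28, 25, 28, 28, 32, 24, 33, 28],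
    [29, 32, 29, 29, 25, 29, 34, 29], [30, 33, 30, 26, 34, 30, 25, 35], [31, 31, 27, 35, 31, 31, 31, 26],
    [32, 29, 32, 36, 28, 32, 37, 32], [33, 30, 33, 33, 37, 33, 28, 38], [34, 37, 34, 34, 30, 39, 29, 40],
    [35, 38, 35, 31, 40, 35, 35, 30], [36, 36, 41, 32, 36, 36, 42, 36], [37, 34, 37, 42, 33, 43, 32, 44],
    [38, 35, 38, 38, 44, 38, 38, 33], [39, 43, 39, 39, 39, 34, 39, 45], [40, 44, 40, 40, 35, 45, 40, 34],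
    [46, 41, 36, 41, 41, 41, 47, 41], [42, 42, 47, 37, 42, 48, 36, 49], [43, 39, 43, 48, 43, 37, 43, 50],
    [44, 40, 44, 49, 38, 50, 44, 37], [45, 50, 45, 45, 45, 40, 51, 39], [41, 46, 46, 46, 46, 46, 52, 46],
    [52, 47, 42, 47, 47, 53, 41, 54], [48, 48, 53, 43, 55, 42, 48, 56], [49, 49, 54, 44, 49, 56, 49, 42],
    [50, 45, 50, 56, 50, 44, 57, 43], [51, 57, 51, 51, 51, 51, 45, 51], [47, 52, 52, 52, 52, 58, 46, 59],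
    [58, 53, 48, 53, 60, 47, 53, 61], [59, 54, 49, 54, 54, 61, 54, 47], [55, 55, 60, 55, 48, 55, 55, 62],
    [56, 56, 61, 50, 62, 49, 63, 48], [57, 51, 57, 63, 57, 57, 50, 57], [53, 58, 58, 58, 64, 52, 58, 65],
    [54, 59, 59, 59, 59, 65, 59, 52], [64, 60, 55, 66, 53, 60, 60, 67], [65, 61, 56, 61, 67, 54, 68, 53],
    [62, 62, 67, 62, 56, 62, 69, 55], [63, 63, 68, 57, 69, 63, 56, 63], [60, 64, 64, 70, 58, 64, 64, 71],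
    [61, 65, 65, 65, 71, 59, 72, 58], [70, 73, 66, 60, 66, 66, 66, 74], [71, 67, 62, 74, 61, 67, 75, 60],
    [72, 68, 63, 68, 75, 68, 61, 68], [69, 69, 75, 69, 63, 76, 62, 69], [66, 77, 78, 64, 70, 70, 70, 79],
    [67, 71, 71, 79, 65, 71, 80, 64], [68, 72, 72, 72, 80, 72, 65, 72], [77, 66, 73, 73, 73, 73, 73, 81],
    [79, 81, 74, 67, 74, 74, 82, 66], [80, 75, 69, 82, 68, 83, 67, 75], [76, 76, 83, 76, 76, 69, 76, 76],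
    [73, 70, 84, 77, 77, 77, 77, 85], [78, 84, 70, 78, 78, 78, 78, 86], [74, 85, 86, 71, 79, 79, 87, 70],
    [75, 80, 80, 87, 72, 88, 71, 80], [85, 74, 81, 81, 81, 81, 89, 73], [87, 89, 82, 75, 82, 90, 74, 82],
    [88, 83, 76, 90, 83, 75, 83, 83], [84, 78, 77, 91, 84, 84, 84, 92], [81, 79, 92, 85, 85, 85, 93, 77],
    [86, 92, 79, 86, 86, 86, 94, 78], [82, 93, 94, 80, 87, 95, 79, 87], [83, 88, 88, 95, 88, 80, 88, 88],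
    [93, 82, 89, 89, 89, 96, 81, 89], [95, 96, 90, 83, 97, 82, 90, 90], [91, 91, 91, 84, 98, 91, 91, 99],
    [92, 86, 85, 99, 92, 92, 100, 84], [89, 87, 100, 93, 93, 101, 85, 93],
    [94, 100, 87, 94, 94, 102, 86, 94], [90, 101, 102, 88, 103, 87, 95, 95],
    [101, 90, 96, 96, 104, 89, 96, 96], [103, 104, 97, 97, 90, 97, 97, 97],
    [98, 98, 98, 98, 91, 105, 98, 106], [99, 99, 99, 92, 106, 99, 107, 91],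
    [100, 94, 93, 107, 100, 108, 92, 100], [96, 95, 108, 101, 109, 93, 101, 101],
    [102, 108, 95, 102, 110, 94, 102, 102], [97, 109, 110, 103, 95, 103, 103, 103],
    [109, 97, 104, 111, 96, 104, 104, 104], [105, 105, 105, 105, 105, 98, 112, 113],
    [106, 106, 106, 106, 99, 113, 114, 98], [107, 107, 107, 100, 114, 115, 99, 107],
    [108, 102, 101, 115, 116, 100, 108, 108], [104, 103, 116, 117, 101, 109, 109, 109],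
    [110, 116, 103, 118, 102, 110, 110, 110], [117, 111, 119, 104, 111, 111, 111, 111],
    [112, 112, 112, 112, 112, 112, 105, 112], [113, 113, 113, 113, 113, 106, 113, 105],
    [114, 114, 114, 114, 107, 114, 106, 114], [115, 115, 115, 108, 115, 107, 115, 115],
    [116, 110, 109, 116, 108, 116, 116, 116], [111, 117, 117, 109, 117, 117, 117, 117],
    [118, 118, 118, 110, 118, 118, 118, 118], [119, 119, 111, 119, 119, 119, 119, 119]]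
  neg := [0, 0]

theorem cls1_reps : chkReps chevE8 E8.cert cls1 = true := by decide +kernel

theorem cls1_orb : chkOrb chevE8 E8.cert cls1 = true := by decide +kernel

theorem cls1_count : chkCount E8.orbits cls1 = true := by decide +kernel

theorem cls1_poly : chkPolyC chevE8 E8.cert cls1 [2, 2, 6, 8, 10, 12, 14, 18] = true := by decide +kernel

theorem cls1_even : evenCount chevE8 E8.cert cls1.node = 64 := by decide +kernel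

theorem cover : chkCover chevE8 cls0 cls1 = true := by decide +kernel

end Cfsg.Agent.Lib.H59.Invol.E8
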