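import Cfsg.Agent.Lib.Chev.Poincare
import Cfsg.Agent.Lib.H59.Homocyclic.Coweight

/-!
Involutions in the Weyl group negate roots.
-/

set_option autoImplicit false

namespace Cfsg.Agent.Lib.H59.Invol

open Cfsg.Lie Cfsg.Agent.Lib.Chev
open Cfsg.Agent.Lib.H59.Homocyclic (srootF)

variable {D : ChevalleyDatum} {C : Cert}

theorem root_ext (h : Checked D C) {r s : ℕ} (hr : r < D.nroots) (hs : s < D.nroots)
    (e : ∀ j < D.rank, coef D C j r = coef D C j s) : r = s := by
  refine h.code_inj hr hs (Nat.cast_injective (R := ℤ) ?_)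
  rw [sum_dig _ _ (h.code_lt hr), sum_dig _ _ (h.code_lt hs)]
  refine Finset.sum_congr rfl fun k hk => ?_
  rw [Finset.mem_range] at hk
  have e1 := e (D.rank - 1 - k) (by omega)
  simp only [coef_eq_dig, show D.rank - 1 - (D.rank - 1 - k) = k by omega] at e1
  rw [e1]

variable (hh : Rooted D C)
include hh

theorem ngF_ngF (r : Fin D.nroots) : ngF D (ngF D r) = r := Fin.ext (Checked.ng_ng r.2)

theorem card_invs_inv {w : Equiv.Perm (Fin D.nroots)} (hw : w ∈ weyl hh.toChecked (Finset.range D.rank)) :
    (invs w⁻¹).card = (invs w).card := by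
  have h := hh.toChecked
  have hm := h.two_mul_half
  symm
  refine Finset.card_bij' (fun r _ => ngF D (w r)) (fun r _ => ngF D (w⁻¹ r)) ?_ ?_ ?_ ?_
  · intro r hr
    rw [h.mem_invs_lt] at hr ⊢
    rw [h.weyl_neg (inv_mem hw), perm_symm_apply]
    simp only [ngF, ng]
    omega
  · intro r hr
    rw [h.mem_invs_lt] at hr ⊢
    rw [h.weyl_neg hw, perm_apply_symm]
    simp only [ngF, ng]
    omega
  · intro r hr
    rw [h.weyl_neg (inv_mem hw), perm_symm_apply, ngF_ngF hh]
  · intro r hr
    rw [h.weyl_neg hw, perm_apply_symm, ngF_ngF hh]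

/-- Conjugation of an involution by a fundamental reflection at a flipped, not negated, root shortens it. -/
theorem card_invs_conj_lt {v : Equiv.Perm (Fin D.nroots)} (hv : v ∈ weyl hh.toChecked (Finset.range D.rank))
    (h2 : v * v = 1) {i : ℕ} (hi : i < D.rank) (hf : srootF hh.toChecked hi ∈ invs v)
    (hne : v (srootF hh.toChecked hi) ≠ ngF D (srootF hh.toChecked hi)) :
    (invs (sigma hh.toChecked i * v * sigma hh.toChecked i)).card < (invs v).card := by
  have h := hh.toChecked
  have hsW := h.sigma_mem_weyl (Finset.mem_range.2 hi)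
  have h1 := hh.card_invs_mul_sigma hi hv hf
  have e : (invs (sigma h i * v)).card = (invs (v * sigma h i)).card := by
    rw [← card_invs_inv hh (mul_mem hv hsW), mul_inv_rev, h.sigma_inv, inv_eq_of_mul_eq_one_left h2]
  have h3 : srootF h hi ∈ invs (sigma h i * v) := by
    rw [h.mem_invs_lt] at hf ⊢
    refine ⟨hf.1, ?_⟩
    rw [Equiv.Perm.mul_apply, h.sigma_val hi]
    exact hh.refl_neg hi (v _).2 hf.2 fun e => hne (Fin.ext e)
  have h4 := hh.card_invs_mul_sigma hi (mul_mem hsW hv) h3
  omega

theorem conj_sigma_facts {v : Equiv.Perm (Fin D.nroots)} (hv : v ∈ weyl hh.toChecked (Finset.range D.rank))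
    (h2 : v * v = 1) (h1 : v ≠ 1) (i : ℕ) :
    sigma hh.toChecked i * v * sigma hh.toChecked i ∈ weyl hh.toChecked (Finset.range D.rank) ∧
      sigma hh.toChecked i * v * sigma hh.toChecked i * (sigma hh.toChecked i * v * sigma hh.toChecked i) = 1 ∧
      sigma hh.toChecked i * v * sigma hh.toChecked i ≠ 1 := by
  have h := hh.toChecked
  set s := sigma h i with hs
  have hsW : s ∈ weyl h (Finset.range D.rank) := by
    by_cases hi : i < D.rank
    · exact h.sigma_mem_weyl (Finset.mem_range.2 hi)
    · rw [hs, show sigma h i = 1 by simp [sigma, hi]]; exact one_mem _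
  have hss := h.sigma_sigma i
  refine ⟨mul_mem (mul_mem hsW hv) hsW, ?_, fun e => h1 ?_⟩
  · calc s * v * s * (s * v * s) = s * v * (s * s) * v * s := by group
      _ = 1 := by rw [hss, mul_one, mul_assoc s v v, h2, mul_one, hss]
  · calc v = s * s * v * (s * s) := by rw [hss, one_mul, mul_one]
      _ = s * (s * v * s) * s := by group
      _ = 1 := by rw [e, mul_one, hss]

theorem exists_negated {v : Equiv.Perm (Fin D.nroots)} (hv : v ∈ weyl hh.toChecked (Finset.range D.rank))
    (h2 : v * v = 1) (h1 : v ≠ 1) : ∃ β, v β = ngF D β := by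
  have h := hh.toChecked
  induction hn : (invs v).card using Nat.strong_induction_on generalizing v with
  | _ n ih =>
    obtain ⟨i, hi, -, hf⟩ := hh.exists_simple_flip (K := Finset.range D.rank)
      (fun i hi => Finset.mem_range.1 hi) hv h1
    by_cases he : v (srootF h hi) = ngF D (srootF h hi)
    · exact ⟨_, he⟩
    obtain ⟨a, b, c⟩ := conj_sigma_facts hh hv h2 h1 i
    obtain ⟨β, hβ⟩ := ih _ (hn ▸ card_invs_conj_lt hh hv h2 hi hf he) a b c rfl
    refine ⟨sigma h i β, ?_⟩
    have hβ' := congrArg (sigma h i) hβ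
    rw [Equiv.Perm.mul_apply, Equiv.Perm.mul_apply, ← Equiv.Perm.mul_apply (sigma h i) (sigma h i),
      h.sigma_sigma, Equiv.Perm.one_apply, h.weyl_neg (h.sigma_mem_weyl (Finset.mem_range.2 hi))] at hβ'
    exact hβ'

/-- After multiplying by the reflection at a negated root, fewer roots are negated. -/
theorem negated_of_sigma_mul {v : Equiv.Perm (Fin D.nroots)} (hv : v ∈ weyl hh.toChecked (Finset.range D.rank))
    (h2 : v * v = 1) {i : ℕ} (hi : i < D.rank)
    (hα : v (srootF hh.toChecked hi) = ngF D (srootF hh.toChecked hi)) {β : Fin D.nroots}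
    (hβ : (sigma hh.toChecked i * v) β = ngF D β) :
    v β = ngF D β ∧ sigma hh.toChecked i β = β ∧ β ≠ srootF hh.toChecked hi := by
  have h := hh.toChecked
  have hm := h.two_mul_half
  rw [Equiv.Perm.mul_apply] at hβ
  have e1 : v β = ngF D (sigma h i β) := by
    have := congrArg (sigma h i) hβ
    rwa [← Equiv.Perm.mul_apply, h.sigma_sigma, Equiv.Perm.one_apply,
      h.weyl_neg (h.sigma_mem_weyl (Finset.mem_range.2 hi))] at this
  obtain ⟨L, hL, eL⟩ := h.exists_word_of_weyl hv
  set n := D.cartan i β.val with hn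
  have hcv : ∀ j < D.rank, coef D C j (v β).val = - coef D C j β.val + if j = i then n else 0 := by
    intro j hj
    rw [e1]
    simp only [ngF]
    rw [h.coef_neg hj (sigma h i β).2, h.sigma_val hi, h.coef_refl hi hj β.2]
    split_ifs <;> ring
  have hvα : ∀ j < D.rank, coef D C j (perm C L (D.simple i)) = - if i = j then 1 else 0 := by
    intro j hj
    have e := h.wperm_val hL (srootF h hi)
    rw [eL, hα] at e
    rw [show perm C L (D.simple i) = ng D (D.simple i) from e.symm, h.coef_neg hj (h.simple_lt hi),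
      (h.simple_tab hi hj).2.1]
  have n0 : n = 0 := by
    have e := h.coef_perm hi hL (v β).2
    rw [← h.wperm_val hL, eL, ← Equiv.Perm.mul_apply, h2, Equiv.Perm.one_apply] at e
    have e2 := h.coef_perm hi hL β.2
    rw [← h.wperm_val hL, eL, hcv i hi, if_pos rfl] at e2
    have e3 : ∑ l ∈ Finset.range D.rank, coef D C l (v β).val * coef D C i (perm C L (D.simple l)) =
        - (∑ l ∈ Finset.range D.rank, coef D C l β.val * coef D C i (perm C L (D.simple l))) +
          n * coef D C i (perm C L (D.simple i)) := by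
      rw [← Finset.sum_neg_distrib, ← Finset.sum_eq_single (s := Finset.range D.rank) i
        (f := fun l => if l = i then n * coef D C i (perm C L (D.simple l)) else 0) (fun l _ hl => if_neg hl)
        (fun hn' => absurd (Finset.mem_range.2 hi) hn') |>.trans (if_pos rfl), ← Finset.sum_add_distrib]
      refine Finset.sum_congr rfl fun l hl => ?_
      rw [hcv l (Finset.mem_range.1 hl)]
      split_ifs <;> ring
    rw [e3, ← e2, hvα i hi, if_pos rfl] at e
    omega
  have e4 : sigma h i β = β := Fin.ext (by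
    refine root_ext h (sigma h i β).2 β.2 fun j hj => ?_
    rw [h.sigma_val hi, h.coef_refl hi hj β.2, ← hn, n0, ite_self, sub_zero])
  refine ⟨by rw [e1, e4], e4, ?_⟩
  rintro rfl
  have := congrArg Fin.val e4
  rw [h.sigma_val hi] at this
  exact h.ng_ne (h.simple_lt hi) ((h.simple_refl hi).symm.trans this)

end Cfsg.Agent.Lib.H59.Invol
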