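import Cfsg.Agent.Lib.H59.Invol.Sl2
import Cfsg.Agent.Lib.H59.Invol.Negated

/-!
The conjugations in a rank one subgroup which lower the Weyl group components.
-/

set_option autoImplicit false

namespace Cfsg.Agent.Lib.H59.Invol

open Cfsg.Lie Cfsg.Agent.Lib.Chev Cfsg.Agent.Lib.ChevField
open Cfsg.Agent.Lib.ChevCent (xg)
open Cfsg.Agent.Lib.H59.Homocyclic (srootF act tor CW)
open scoped Matrix MatrixGroups

variable {D : ChevalleyDatum} {C : Cert} {K : Type*} [Field K]

theorem IsMono.diag_of_one (hh : Rooted D C) {g : GL D.Idx K} (hg : IsMono hh.toChecked g 1) :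
    g ∈ D.diagonalSubgroup K := by
  obtain ⟨L, t, hL, ht, rfl, eL⟩ := hg
  refine mul_mem ht (hh.nProd_mem_diag_of_pos hL fun r hp hr' => ?_)
  have := hh.toChecked.wperm_val hL ⟨r, hr'⟩
  rw [eL, Equiv.Perm.one_apply] at this
  rw [← this]
  exact hp

theorem IsMono.mem_group (hh : Rooted D C) {g : GL D.Idx K} {w : Equiv.Perm (Fin D.nroots)}
    (hg : IsMono hh.toChecked g w) : g ∈ D.group K := by
  obtain ⟨L, t, hL, ht, rfl, -⟩ := hg
  exact mul_mem (hh.diagonal_le_group ht) (hh.monomial_le_group (hh.nProd_mem_monomial hL))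

theorem glMap_xg (h : Checked D C) (σ : K →+* K) (r : ℕ) (t : K) :
    glMap D σ (xg h r t) = xg h r (σ t) := by
  unfold xg
  split_ifs with hr
  · exact glMap_xGL h σ hr t
  · exact map_one _

theorem xg_inj (h : Checked D C) {r : ℕ} (hr : r < D.nroots) {a b : K} (e : xg h r a = xg h r b) : a = b :=
  h.x_injective hr (by rw [← ChevCent.coe_xg h, ← ChevCent.coe_xg h, e])

/-- The product `upper * lower * upper` with given entries. -/
def ulu (a b c : K) : SL(2, K) := RankOneData.upper a * RankOneData.lower b * RankOneData.upper c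

/-- The product `lower * upper * lower` with given entries. -/
def lul (a b c : K) : SL(2, K) := RankOneData.lower a * RankOneData.upper b * RankOneData.lower c

theorem ulu_entries (a b c : K) :
    ulu a b c 0 0 = 1 + a * b ∧ ulu a b c 0 1 = (1 + a * b) * c + a ∧ ulu a b c 1 0 = b ∧
      ulu a b c 1 1 = b * c + 1 := by
  refine ⟨?_, ?_, ?_, ?_⟩ <;>
    simp [ulu, RankOneData.mul_entry, RankOneData.upper_entries, RankOneData.lower_entries]

theorem lul_entries (a b c : K) :
    lul a b c 0 0 = 1 + b * c ∧ lul a b c 0 1 = b ∧ lul a b c 1 0 = a + (a * b + 1) * c ∧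
      lul a b c 1 1 = a * b + 1 := by
  refine ⟨?_, ?_, ?_, ?_⟩ <;>
    simp [lul, RankOneData.mul_entry, RankOneData.upper_entries, RankOneData.lower_entries]

section Phi

variable (hh : Rooted D C) {i : ℕ} (hi : i < D.rank) {φ : SL(2, K) →* GL D.Idx K}
  (hφ : ∀ t : K, φ (RankOneData.upper t) = xg hh.toChecked (D.simple i) t ∧
    φ (RankOneData.lower t) = xg hh.toChecked (ng D (D.simple i)) t)

include hφ

theorem glMap_phi_ulu (σ : K →+* K) (a b c : K) :
    glMap D σ (φ (ulu a b c)) = φ (ulu (σ a) (σ b) (σ c)) := by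
  simp only [ulu, map_mul, (hφ _).1, (hφ _).2, glMap_xg]

include hi

theorem conj_ulu_fix {g : GL D.Idx K} {w : Equiv.Perm (Fin D.nroots)} (hg : IsMono hh.toChecked g w)
    (hw : w (srootF hh.toChecked hi) = srootF hh.toChecked hi) : ∃ m : K, m ≠ 0 ∧
      (∀ a : K, g * xg hh.toChecked (D.simple i) a * g⁻¹ = xg hh.toChecked (D.simple i) (m * a)) ∧
      (∀ a : K, g * xg hh.toChecked (ng D (D.simple i)) a * g⁻¹ = xg hh.toChecked (ng D (D.simple i)) (m⁻¹ * a)) ∧
      ∀ a b c : K, g * φ (ulu a b c) * g⁻¹ = φ (ulu (m * a) (m⁻¹ * b) (m * c)) := by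
  obtain ⟨k, hk, hconj⟩ := hg.conj_xg hh
  refine ⟨k (srootF hh.toChecked hi), Units.ne_zero _, ?_⟩
  have e1 : ∀ a : K, g * xg hh.toChecked (D.simple i) a * g⁻¹ =
      xg hh.toChecked (D.simple i) ((k (srootF hh.toChecked hi) : K) * a) := fun a => by
    have := hconj (srootF hh.toChecked hi) a
    rwa [hw] at this
  have e2 : ∀ a : K, g * xg hh.toChecked (ng D (D.simple i)) a * g⁻¹ =
      xg hh.toChecked (ng D (D.simple i)) ((k (srootF hh.toChecked hi) : K)⁻¹ * a) := fun a => by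
    have := hconj (ngF D (srootF hh.toChecked hi)) a
    rw [hh.toChecked.weyl_neg hg.mem_weyl, hw, hk, Units.val_inv_eq_inv_val] at this
    exact this
  refine ⟨e1, e2, fun a b c => ?_⟩
  simp only [ulu, map_mul, (hφ _).1, (hφ _).2, ← e1, ← e2]
  group

theorem conj_ulu_neg {g : GL D.Idx K} {w : Equiv.Perm (Fin D.nroots)} (hg : IsMono hh.toChecked g w)
    (hw : w (srootF hh.toChecked hi) = ngF D (srootF hh.toChecked hi)) : ∃ k : K, k ≠ 0 ∧
      (∀ a : K, g * xg hh.toChecked (D.simple i) a * g⁻¹ = xg hh.toChecked (ng D (D.simple i)) (k * a)) ∧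
      (∀ a : K, g * xg hh.toChecked (ng D (D.simple i)) a * g⁻¹ = xg hh.toChecked (D.simple i) (k⁻¹ * a)) ∧
      ∀ a b c : K, g * φ (ulu a b c) * g⁻¹ = φ (lul (k * a) (k⁻¹ * b) (k * c)) := by
  obtain ⟨k, hk, hconj⟩ := hg.conj_xg hh
  refine ⟨k (srootF hh.toChecked hi), Units.ne_zero _, ?_⟩
  have e1 : ∀ a : K, g * xg hh.toChecked (D.simple i) a * g⁻¹ =
      xg hh.toChecked (ng D (D.simple i)) ((k (srootF hh.toChecked hi) : K) * a) := fun a => by
    have := hconj (srootF hh.toChecked hi) a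
    rwa [hw] at this
  have e2 : ∀ a : K, g * xg hh.toChecked (ng D (D.simple i)) a * g⁻¹ =
      xg hh.toChecked (D.simple i) ((k (srootF hh.toChecked hi) : K)⁻¹ * a) := fun a => by
    have := hconj (ngF D (srootF hh.toChecked hi)) a
    rw [hh.toChecked.weyl_neg hg.mem_weyl, hw, ngF_ngF hh, hk, Units.val_inv_eq_inv_val] at this
    exact this
  refine ⟨e1, e2, fun a b c => ?_⟩
  simp only [ulu, lul, map_mul, (hφ _).1, (hφ _).2, ← e1, ← e2]
  group

end Phi

variable (hh : Rooted D C) (hs : Twisted.chkEtaSigns D C = true)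
include hh hs

/-- A monomial element fixing or negating a fundamental root commutes with its reflection. -/
theorem sigma_commute {g : GL D.Idx K} {w : Equiv.Perm (Fin D.nroots)} (hg : IsMono hh.toChecked g w)
    {i : ℕ} (hi : i < D.rank) (hw : w (srootF hh.toChecked hi) = srootF hh.toChecked hi ∨
      w (srootF hh.toChecked hi) = ngF D (srootF hh.toChecked hi)) :
    w * sigma hh.toChecked i = sigma hh.toChecked i * w := by
  obtain ⟨φ, hφ, -, hanti, -⟩ := exists_phi (F := K) hh hs hi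
  have hbase := hg.conj hh (hanti 1 one_ne_zero)
  have e : ∃ c : K, c ≠ 0 ∧ g * φ (antid 1) * g⁻¹ = φ (antid c) := by
    have ea : (antid (1 : K)) = ulu 1 (-1) 1 := by simp [antid, ulu]
    rcases hw with hw | hw
    · obtain ⟨m, hm, -, -, e⟩ := conj_ulu_fix hh hi hφ hg hw
      refine ⟨m, hm, ?_⟩
      rw [ea, e]
      congr 1
      simp [antid, ulu]
    · obtain ⟨k, hk, -, -, e⟩ := conj_ulu_neg hh hi hφ hg hw
      refine ⟨-k⁻¹, neg_ne_zero.2 (inv_ne_zero hk), ?_⟩
      rw [ea, e]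
      congr 1
      obtain ⟨a, b, c, d⟩ := antid_entries (neg_ne_zero.2 (inv_ne_zero hk))
      obtain ⟨a', b', c', d'⟩ := lul_entries (k * 1) (k⁻¹ * -1) (k * 1)
      refine RankOneData.sl_ext ?_ ?_ ?_ ?_ <;> simp only [a, b, c, d, a', b', c', d'] <;> field_simp <;> ring
  obtain ⟨c, hc, e⟩ := e
  rw [e] at hbase
  have := (hanti c hc).unique hh hbase
  calc w * sigma hh.toChecked i = w * sigma hh.toChecked i * w⁻¹ * w := by group
    _ = sigma hh.toChecked i * w := by rw [← this]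

/-- Lowering an involution which negates a fundamental root. -/
theorem lower_involution (σ : K →+* K) (h2K : (2 : K) ≠ 0) (hsq : ∀ x : K, ∃ c, c * c = x)
    {i : ℕ} (hi : i < D.rank) {h e : GL D.Idx K} {v p : Equiv.Perm (Fin D.nroots)}
    (hv : IsMono hh.toChecked h v) (hvα : v (srootF hh.toChecked hi) = ngF D (srootF hh.toChecked hi))
    (he : IsMono hh.toChecked e p) (hpα : p (srootF hh.toChecked hi) = srootF hh.toChecked hi)
    (hσh : glMap D σ h = e * h * e⁻¹) :
    ∃ y ∈ D.group K, IsMono hh.toChecked (y * h * y⁻¹) (sigma hh.toChecked i * v) ∧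
      (IsMono hh.toChecked (glMap D σ y * e * y⁻¹) p ∨
        IsMono hh.toChecked (glMap D σ y * e * y⁻¹) (sigma hh.toChecked i * p)) := by
  obtain ⟨φ, hφ, hφG, hanti, hdiag⟩ := exists_phi (F := K) hh hs hi
  obtain ⟨k, hk, hk1, -, hkc⟩ := conj_ulu_neg hh hi hφ hv hvα
  obtain ⟨m, hm, hm1, hm2, hmc⟩ := conj_ulu_fix hh hi hφ he hpα
  -- the effect of the field map on `k`
  have hσk : σ k = m⁻¹ * (k * m⁻¹) := by
    refine xg_inj hh.toChecked (Checked.ng_lt (hh.toChecked.simple_lt hi)) ?_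
    have e1 : glMap D σ (h * xg hh.toChecked (D.simple i) 1 * h⁻¹) =
        e * h * e⁻¹ * xg hh.toChecked (D.simple i) 1 * (e * h * e⁻¹)⁻¹ := by
      rw [map_mul, map_mul, map_inv, hσh, glMap_xg, map_one]
    have e2 : e⁻¹ * xg hh.toChecked (D.simple i) 1 * e = xg hh.toChecked (D.simple i) m⁻¹ := by
      have := hm1 m⁻¹
      rw [mul_inv_cancel₀ hm] at this
      rw [← this]; group
    rw [hk1, glMap_xg, mul_one] at e1
    rw [e1]
    calc e * h * e⁻¹ * xg hh.toChecked (D.simple i) 1 * (e * h * e⁻¹)⁻¹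
        = e * (h * (e⁻¹ * xg hh.toChecked (D.simple i) 1 * e) * h⁻¹) * e⁻¹ := by group
      _ = _ := by rw [e2, hk1, hm2]
  obtain ⟨c, hc2⟩ := hsq k⁻¹
  have hc : c ≠ 0 := by
    rintro rfl
    exact inv_ne_zero hk (by rw [← hc2, mul_zero])
  set s : K := -(2 * c)⁻¹ with hsdef
  have hck : k * (c * c) = 1 := by rw [hc2, mul_inv_cancel₀ hk]
  have hσc : σ c = m * c ∨ σ c = -(m * c) := by
    have e1 : σ c * σ c = (m * c) * (m * c) := by
      rw [← map_mul, hc2, map_inv₀, hσk]
      field_simp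
      linear_combination -hck
    exact mul_self_eq_mul_self_iff.1 e1
  refine ⟨φ (ulu (s - 1) 1 (-c - 1)), hφG _, ?_, ?_⟩
  · have hy : φ (ulu (s - 1) 1 (-c - 1)) * h * (φ (ulu (s - 1) 1 (-c - 1)))⁻¹ = φ (antid c) * h := by
      have e1 : φ (antid c) * φ (lul (k * (s - 1)) (k⁻¹ * 1) (k * (-c - 1))) = φ (ulu (s - 1) 1 (-c - 1)) := by
        rw [← map_mul]
        congr 1
        obtain ⟨a, b, d, d'⟩ := antid_entries hc
        obtain ⟨a1, b1, d1, d1'⟩ := lul_entries (k * (s - 1)) (k⁻¹ * 1) (k * (-c - 1))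
        obtain ⟨a2, b2, d2, d2'⟩ := ulu_entries (s - 1) 1 (-c - 1)
        refine RankOneData.sl_ext ?_ ?_ ?_ ?_ <;>
          simp only [RankOneData.mul_entry, a, b, d, d', a1, b1, d1, d1', a2, b2, d2, d2']
        all_goals rw [hsdef]
        all_goals field_simp
        all_goals grind
      conv_lhs => arg 1; arg 1; rw [← e1, ← hkc]
      group
    rw [hy]
    exact (hanti c hc).mul hh hv
  · have hy : glMap D σ (φ (ulu (s - 1) 1 (-c - 1))) * e * (φ (ulu (s - 1) 1 (-c - 1)))⁻¹ =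
        φ (ulu (σ s - 1) 1 (-σ c - 1) * (ulu (m * (s - 1)) (m⁻¹ * 1) (m * (-c - 1)))⁻¹) * e := by
      rw [glMap_phi_ulu hh hφ, map_mul φ (ulu _ _ _), map_inv φ, ← hmc]
      simp only [map_sub, map_one, map_neg]
      group
    rw [hy]
    have hσs : σ s = -(2 * σ c)⁻¹ := by rw [hsdef]; simp [map_inv₀, map_ofNat]
    obtain ⟨a1, b1, d1, d1'⟩ := ulu_entries (σ s - 1) 1 (-σ c - 1)
    obtain ⟨a2, b2, d2, d2'⟩ := ulu_entries (m * (s - 1)) (m⁻¹ * 1) (m * (-c - 1))
    rcases hσc with e1 | e1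
    · left
      have e2 : ulu (σ s - 1) 1 (-σ c - 1) * (ulu (m * (s - 1)) (m⁻¹ * 1) (m * (-c - 1)))⁻¹ = diag2 m⁻¹ := by
        rw [mul_inv_eq_iff_eq_mul]
        obtain ⟨a, b, d, d'⟩ := diag2_entries (inv_ne_zero hm)
        refine RankOneData.sl_ext ?_ ?_ ?_ ?_ <;>
          simp only [RankOneData.mul_entry, a, b, d, d', a1, b1, d1, d1', a2, b2, d2, d2']
        all_goals (try simp only [hσs, e1])
        all_goals (try simp only [hsdef])
        all_goals field_simp
        all_goals ring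
      rw [e2]
      have := (isMono_diag hh.toChecked (hdiag _ (inv_ne_zero hm))).mul hh he
      rwa [one_mul] at this
    · right
      have e2 : ulu (σ s - 1) 1 (-σ c - 1) * (ulu (m * (s - 1)) (m⁻¹ * 1) (m * (-c - 1)))⁻¹ =
          antid (2 * c)⁻¹ := by
        rw [mul_inv_eq_iff_eq_mul]
        obtain ⟨a, b, d, d'⟩ := antid_entries (c := (2 * c)⁻¹) (inv_ne_zero (mul_ne_zero h2K hc))
        refine RankOneData.sl_ext ?_ ?_ ?_ ?_ <;>
          simp only [RankOneData.mul_entry, a, b, d, d', a1, b1, d1, d1', a2, b2, d2, d2']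
        all_goals (try simp only [hσs, e1])
        all_goals (try simp only [hsdef])
        all_goals field_simp
        all_goals ring
      rw [e2]
      exact (hanti _ (inv_ne_zero (mul_ne_zero h2K hc))).mul hh he

/-- Lowering the twist at a root negated by it on which the torus element is trivial. -/
theorem lower_twist (σ : K →+* K) (h2K : (2 : K) ≠ 0) (hnorm : ∀ x : K, ∃ c, c * σ c = x)
    {i : ℕ} (hi : i < D.rank) {e : GL D.Idx K} {p : Equiv.Perm (Fin D.nroots)}
    (he : IsMono hh.toChecked e p) (hpα : p (srootF hh.toChecked hi) = ngF D (srootF hh.toChecked hi))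
    {m : ℕ} {z : Multiplicative (ZMod m) →* Kˣ} {a : Fin D.nroots → ZMod m} (ha : a ∈ CW D (ZMod m))
    (h0 : a (srootF hh.toChecked hi) = 0) :
    ∃ y ∈ D.group K, Commute y (tor z (Multiplicative.ofAdd a)) ∧
      IsMono hh.toChecked (glMap D σ y * e * y⁻¹) (sigma hh.toChecked i * p) := by
  have h := hh.toChecked
  obtain ⟨φ, hφ, hφG, hanti, -⟩ := exists_phi (F := K) hh hs hi
  obtain ⟨k, hk, -, -, hkc⟩ := conj_ulu_neg hh hi hφ he hpα
  obtain ⟨c, hc1⟩ := hnorm k⁻¹
  have hc : c ≠ 0 := by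
    rintro rfl
    exact inv_ne_zero hk (by rw [← hc1, zero_mul])
  have hσc : σ c = (k * c)⁻¹ := by
    rw [mul_inv, ← hc1]; field_simp
  set s : K := -(2 * c)⁻¹ with hsdef
  refine ⟨φ (ulu (s - 1) 1 (-c - 1)), hφG _, ?_, ?_⟩
  · have hxc : ∀ (r : Fin D.nroots), a r = 0 → ∀ t : K,
        Commute (xg h r.val t) (tor z (Multiplicative.ofAdd a)) := by
      intro r hr t
      have := Homocyclic.tor_conj_xg (z := z) h ha r t
      rw [hr, ofAdd_zero, map_one, Units.val_one, one_mul, mul_inv_eq_iff_eq_mul] at this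
      exact this.symm
    have hneg : a (ngF D (srootF h hi)) = 0 := by
      obtain ⟨lam, rfl⟩ := ha
      rw [Homocyclic.iota_apply] at h0 ⊢
      rw [← neg_eq_zero, ← Finset.sum_neg_distrib] at h0
      rw [← h0]
      refine Finset.sum_congr rfl fun j _ => ?_
      rw [show ((ngF D (srootF h hi)).val) = ng D (srootF h hi).val from rfl, h.cartan_ng j.2 (srootF h hi).2,
        Int.cast_neg, neg_mul]
    simp only [ulu, map_mul, (hφ _).1, (hφ _).2]
    exact ((hxc (srootF h hi) h0 _).mul_left (hxc (ngF D (srootF h hi)) hneg _)).mul_left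
      (hxc (srootF h hi) h0 _)
  · have hy : glMap D σ (φ (ulu (s - 1) 1 (-c - 1))) * e * (φ (ulu (s - 1) 1 (-c - 1)))⁻¹ =
        φ (ulu (σ s - 1) 1 (-σ c - 1) * (lul (k * (s - 1)) (k⁻¹ * 1) (k * (-c - 1)))⁻¹) * e := by
      rw [glMap_phi_ulu hh hφ, map_mul φ (ulu _ _ _), map_inv φ, ← hkc]
      simp only [map_sub, map_one, map_neg]
      group
    rw [hy]
    have hσs : σ s = -(2 * σ c)⁻¹ := by rw [hsdef]; simp [map_inv₀, map_ofNat]
    have e2 : ulu (σ s - 1) 1 (-σ c - 1) * (lul (k * (s - 1)) (k⁻¹ * 1) (k * (-c - 1)))⁻¹ = antid c := by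
      rw [mul_inv_eq_iff_eq_mul]
      obtain ⟨a0, b, d, d'⟩ := antid_entries hc
      obtain ⟨a1, b1, d1, d1'⟩ := ulu_entries (σ s - 1) 1 (-σ c - 1)
      obtain ⟨a2, b2, d2, d2'⟩ := lul_entries (k * (s - 1)) (k⁻¹ * 1) (k * (-c - 1))
      refine RankOneData.sl_ext ?_ ?_ ?_ ?_ <;>
        simp only [RankOneData.mul_entry, a0, b, d, d', a1, b1, d1, d1', a2, b2, d2, d2']
      all_goals (try simp only [hσs, hσc])
      all_goals (try simp only [hsdef])
      all_goals field_simp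
      all_goals ring
    rw [e2]
    exact (hanti c hc).mul hh he

end Cfsg.Agent.Lib.H59.Invol
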