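import Cfsg.Agent.Lib.H59.Invol.Negated
import Cfsg.Agent.Lib.H59.Homocyclic.WeylMatrix
import Cfsg.Agent.Lib.Chev.Orders

/-!
Coweights modulo two: the orbit of a fundamental one, and its stabiliser as cosets of a parabolic subgroup.
-/

set_option autoImplicit false

namespace Cfsg.Agent.Lib.H59.Invol

open Cfsg.Lie Cfsg.Agent.Lib.Chev
open Cfsg.Agent.Lib.H59.Homocyclic (srootF act CW iota)
open scoped Matrix

variable {D : ChevalleyDatum} {C : Cert}

/-- A coweight modulo two as a function on the roots. -/
def av (D : ChevalleyDatum) (C : Cert) (μ : List ℤ) : Fin D.nroots → ZMod 2 := fun r => (dotv D C μ r.val : ZMod 2)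

/-- Reduction modulo two. -/
def red (μ : List ℤ) : List ℤ := μ.map fun z => z % 2

/-- The coweight carried back by a word. -/
def cwWord (D : ChevalleyDatum) (C : Cert) (k : ℕ) (L : List ℕ) : List ℤ :=
  L.foldl (fun μ i => actv D C i μ) (funv D k)

/-- The number of positive roots of even value on which a coweight is negative. -/
def depth0 (D : ChevalleyDatum) (C : Cert) (k : ℕ) (μ : List ℤ) : ℕ :=
  ((List.range' (D.nroots / 2) (D.nroots / 2)).filter fun r =>
    decide (dotv D C μ r < 0) && decide (coef D C k r % 2 = 0)).length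

/-- The data of one class: the node, the coset representatives, the chain of the parabolic subgroup, the orbit
modulo two and the witnesses of negated roots. -/
structure ClassCert where
  node : ℕ
  reps : List (List ℕ)
  sub : List OrbitCert
  orb : List (List ℤ)
  parent : List (ℕ × ℕ)
  target : List (List ℕ)
  neg : List ℕ

/-- The checks on the coset representatives. -/
def chkReps (D : ChevalleyDatum) (C : Cert) (c : ClassCert) : Bool :=
  Nat.blt c.node D.rank &&
    chkChain D C ((List.range D.rank).filter fun i => !Nat.beq i c.node) c.sub &&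
    (c.reps.all fun L => L.all fun i => Nat.blt i D.rank) &&
    decide (c.reps.map (cwWord D C c.node)).Nodup &&
    (c.reps.all fun L =>
      let μ := cwWord D C c.node L
      red μ == funv D c.node &&
        (List.range' (D.nroots / 2) (D.nroots / 2)).all fun r =>
          decide (dotv D C μ r ≠ 0) || Nat.ble (D.nroots / 2) (perm C L r)) &&
    (allN c.reps.length fun m =>
      let L := c.reps.getD m []
      let r := c.neg.getD m 0
      (cwWord D C c.node L == funv D c.node) || (Nat.blt r D.nroots &&
        (!Nat.beq (perm C L (perm C L r)) r ||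
          (Nat.beq (perm C L r) (ng D r) && decide (coef D C c.node r % 2 = 0)))))

/-- The checks on the orbit modulo two. -/
def chkOrb (D : ChevalleyDatum) (C : Cert) (c : ClassCert) : Bool :=
  (c.orb.head? == some (funv D c.node)) && decide c.orb.Nodup &&
    (c.orb.all fun μ => Nat.beq μ.length D.rank && μ.all fun z => decide (z = 0) || decide (z = 1)) &&
    (allN c.orb.length fun m => allN D.rank fun i =>
      let t := (c.target.getD m []).getD i 0
      Nat.blt t c.orb.length && (c.orb.getD t [] == red (actv D C i (c.orb.getD m [])))) &&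
    (allN c.parent.length fun m =>
      let e := c.parent.getD m (0, 0)
      Nat.ble e.1 m && Nat.blt e.2 D.rank &&
        (c.orb.getD (m + 1) [] == red (actv D C e.2 (c.orb.getD e.1 [])))) &&
    Nat.beq c.orb.length (c.parent.length + 1)

/-- The count of the Weyl group. -/
def chkCount (os : List OrbitCert) (c : ClassCert) : Bool :=
  Nat.beq ((c.sub.map fun o => o.orbit.length).prod * c.reps.length * c.orb.length)
    (os.map fun o => o.orbit.length).prod

/-- The polynomial identity for the centraliser. -/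
def chkPolyC (D : ChevalleyDatum) (C : Cert) (c : ClassCert) (ds : List ℕ) : Bool :=
  (padd (pmul ((List.replicate D.rank [-1, 1]).foldr pmul [1])
      (pmul ((c.sub.map (orbitPoly D C)).foldr pmul [1])
        ((c.reps.map fun L => pmono (depth0 D C c.node (cwWord D C c.node L))).foldr padd [])))
    (pscale (-1) ((ds.map fun d => padd (pmono d) [-1]).foldr pmul [1]))).all fun a => decide (a = 0)

/-- The checks on a class. -/
structure ClassOK (D : ChevalleyDatum) (C : Cert) (os : List OrbitCert) (c : ClassCert) : Prop where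
  reps_ok : chkReps D C c = true
  orb_ok : chkOrb D C c = true
  count_ok : chkCount os c = true

theorem red_length (μ : List ℤ) : (red μ).length = μ.length := by simp [red]

section Checked

variable (h : Checked D C)
include h

theorem av_red (μ : List ℤ) : av D C (red μ) = av D C μ := by
  funext r
  simp only [av, h.dotv_eq, Int.cast_sum, Int.cast_mul]
  refine Finset.sum_congr rfl fun j _ => ?_
  congr 1
  have e : (red μ).getD j 0 = μ.getD j 0 % 2 := by
    simp only [red, List.getD_eq_getElem?_getD, List.getElem?_map]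
    rcases μ[j]? with _ | z <;> rfl
  rw [e]
  exact (ZMod.intCast_eq_intCast_iff' _ _ 2).2 (Int.emod_emod _ _)

theorem act_av {i : ℕ} (hi : i < D.rank) (μ : List ℤ) : act (sigma h i) (av D C μ) = av D C (actv D C i μ) := by
  funext r
  rw [Homocyclic.act_apply, h.sigma_inv]
  simp only [av]
  rw [h.dotv_actv hi μ r.2, h.sigma_val hi]

theorem av_simple (μ : List ℤ) {j : ℕ} (hj : j < D.rank) : av D C μ (srootF h hj) = (μ.getD j 0 : ZMod 2) := by
  simp only [av, srootF]
  rw [h.dotv_simple μ hj]

theorem av_injOn {μ ν : List ℤ} (hμ : μ.length = D.rank) (hν : ν.length = D.rank)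
    (hμ1 : ∀ z ∈ μ, z = 0 ∨ z = 1) (hν1 : ∀ z ∈ ν, z = 0 ∨ z = 1) (e : av D C μ = av D C ν) : μ = ν := by
  refine List.ext_getElem (hμ.trans hν.symm) fun j h1 h2 => ?_
  have hj : j < D.rank := hμ ▸ h1
  have e1 := congrFun e (srootF h hj)
  rw [av_simple h μ hj, av_simple h ν hj, List.getD_eq_getElem _ _ h1, List.getD_eq_getElem _ _ h2] at e1
  rcases hμ1 _ (List.getElem_mem h1) with a | a <;> rcases hν1 _ (List.getElem_mem h2) with b | b <;>
    rw [a, b] at e1 ⊢ <;> revert e1 <;> decide

theorem av_funv {k : ℕ} (hk : k < D.rank) (r : Fin D.nroots) :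
    av D C (funv D k) r = (coef D C k r.val : ZMod 2) := by
  simp only [av]; rw [h.dotv_funv hk]

theorem av_mem {B : Matrix (Fin D.rank) (Fin D.rank) ℤ} (hB : cmMat D C * B = 1) (μ : List ℤ) :
    av D C μ ∈ CW D (ZMod 2) := by
  have hB' : B * cmMat D C = 1 := mul_eq_one_comm.1 hB
  let v : Fin D.rank → ℤ := fun j => μ.getD j.val 0
  refine ⟨fun i => ((v ᵥ* B) i : ZMod 2), funext fun r => ?_⟩
  have e : dotv D C μ r.val = ∑ i : Fin D.rank, D.cartan i.val r.val * (v ᵥ* B) i := by
    have e1 : (v ᵥ* B) ᵥ* cmMat D C = v := by rw [Matrix.vecMul_vecMul, hB', Matrix.vecMul_one]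
    have e2 : (fun i : Fin D.rank => D.cartan i.val r.val) =
        cmMat D C *ᵥ fun j : Fin D.rank => coef D C j.val r.val := by
      funext i
      rw [h.cartan_eq i.2 r.2, zsum_eq, Finset.sum_range]
      simp only [Matrix.mulVec, dotProduct, cmMat, Matrix.of_apply]
      exact Finset.sum_congr rfl fun k _ => mul_comm _ _
    calc dotv D C μ r.val = v ⬝ᵥ fun j : Fin D.rank => coef D C j.val r.val := by
          rw [h.dotv_eq, Finset.sum_range]; rfl
      _ = (v ᵥ* B) ⬝ᵥ fun i : Fin D.rank => D.cartan i.val r.val := by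
          rw [e2, Matrix.dotProduct_mulVec, e1]
      _ = _ := Finset.sum_congr rfl fun i _ => mul_comm _ _
  simp only [av, e, Homocyclic.iota_apply, Int.cast_sum, Int.cast_mul]

theorem exists_av {a : Fin D.nroots → ZMod 2} (ha : a ∈ CW D (ZMod 2)) :
    ∃ μ : List ℤ, μ.length = D.rank ∧ (∀ z ∈ μ, z = 0 ∨ z = 1) ∧ a = av D C μ := by
  obtain ⟨lam, rfl⟩ := ha
  refine ⟨List.ofFn fun j : Fin D.rank => ((iota D (ZMod 2) lam (srootF h j.2)).val : ℤ), by simp, ?_, ?_⟩
  · intro z hz
    obtain ⟨j, rfl⟩ := List.mem_ofFn.1 hz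
    have := ZMod.val_lt (iota D (ZMod 2) lam (srootF h j.2))
    omega
  · funext r
    simp only [av, h.dotv_eq, Finset.sum_range, Int.cast_sum, Int.cast_mul]
    rw [Finset.sum_congr rfl fun (j : Fin D.rank) _ => by
      rw [show (List.ofFn fun j : Fin D.rank => ((iota D (ZMod 2) lam (srootF h j.2)).val : ℤ)).getD j.val 0 =
        ((iota D (ZMod 2) lam (srootF h j.2)).val : ℤ) by simp [List.getD_eq_getElem?_getD],
        Int.cast_natCast, ZMod.natCast_zmod_val]]
    simp only [Homocyclic.iota_apply, Finset.sum_mul]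
    rw [Finset.sum_comm]
    refine Finset.sum_congr rfl fun i _ => ?_
    rw [h.cartan_eq i.2 r.2, zsum_eq, Finset.sum_range, Int.cast_sum, Finset.sum_mul]
    refine Finset.sum_congr rfl fun j _ => ?_
    rw [show ((srootF h j.2 : Fin D.nroots) : ℕ) = D.simple j from rfl, ← h.cm_eq j.2 i.2, Int.cast_mul]
    ring

theorem dotv_cwWord {k : ℕ} (hk : k < D.rank) {L : List ℕ} (hL : IsWord D L) {r : ℕ} (hr : r < D.nroots) :
    dotv D C (cwWord D C k L) r = coef D C k (perm C L r) := by
  suffices key : ∀ (L : List ℕ), IsWord D L → ∀ μ, dotv D C (L.foldl (fun μ i => actv D C i μ) μ) r =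
      dotv D C μ (perm C L r) by
    rw [cwWord, key L hL, h.dotv_funv hk]
  intro L hL
  induction L with
  | nil => intro μ; rfl
  | cons i L ih =>
    intro μ
    rw [List.foldl_cons, ih hL.cons.2, perm_cons, h.dotv_actv hL.cons.1 μ (h.perm_lt hL.cons.2 hr)]

end Checked

section Class

variable (hh : Rooted D C) {os : List OrbitCert} {c : ClassCert}

open Classical in
/-- The stabiliser of the class. -/
noncomputable def stab (h : Checked D C) (k : ℕ) : Finset (Equiv.Perm (Fin D.nroots)) :=
  Finset.univ.filter fun w => w ∈ weyl h (Finset.range D.rank) ∧ act w (av D C (funv D k)) = av D C (funv D k)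

include hh

theorem mem_stab {k : ℕ} {w : Equiv.Perm (Fin D.nroots)} : w ∈ stab hh.toChecked k ↔
    w ∈ weyl hh.toChecked (Finset.range D.rank) ∧ act w (av D C (funv D k)) = av D C (funv D k) := by
  simp [stab]

variable (hc : ClassOK D C os c)
include hc

theorem node_lt : c.node < D.rank := by
  have h := hc.reps_ok
  simp only [chkReps, Bool.and_eq_true, Nat.blt_eq] at h
  exact h.1.1.1.1.1

theorem rep_spec {m : ℕ} (hm : m < c.reps.length) :
    IsWord D c.reps[m] ∧ red (cwWord D C c.node c.reps[m]) = funv D c.node ∧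
      (∀ r, D.nroots / 2 ≤ r → r < D.nroots → dotv D C (cwWord D C c.node c.reps[m]) r = 0 →
        D.nroots / 2 ≤ perm C c.reps[m] r) ∧
      (cwWord D C c.node c.reps[m] = funv D c.node ∨ (∃ r < D.nroots, perm C c.reps[m] (perm C c.reps[m] r) ≠ r) ∨
        ∃ r < D.nroots, perm C c.reps[m] r = ng D r ∧ coef D C c.node r % 2 = 0) := by
  have hm2 := hh.toChecked.two_mul_half
  have h := hc.reps_ok
  simp only [chkReps, Bool.and_eq_true, List.all_eq_true, Nat.blt_eq, decide_eq_true_iff, Bool.or_eq_true,
    beq_iff_eq, allN_iff, List.mem_range'_1, Nat.ble_eq, natBeq_iff, Bool.not_eq_true'] at h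
  obtain ⟨⟨⟨⟨-, hw⟩, -⟩, hred⟩, hneg⟩ := h
  have hmem := List.getElem_mem hm
  refine ⟨fun i hi => hw _ hmem i hi, (hred _ hmem).1, fun r hp hr h0 => ?_, ?_⟩
  · exact ((hred _ hmem).2 r ⟨hp, by omega⟩).resolve_left (fun e => e h0)
  · have := hneg m hm
    rw [List.getD_eq_getElem _ _ hm] at this
    rcases this with e | ⟨hr, e | e⟩
    · exact Or.inl e
    · exact Or.inr (Or.inl ⟨_, hr, by simpa [natBeq_eq] using e⟩)
    · exact Or.inr (Or.inr ⟨_, hr, e⟩)

theorem rep_coef {m : ℕ} (hm : m < c.reps.length) (r : Fin D.nroots) :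
    coef D C c.node (wperm hh.toChecked c.reps[m] r).val = dotv D C (cwWord D C c.node c.reps[m]) r.val := by
  obtain ⟨hL, -⟩ := rep_spec hh hc hm
  rw [hh.toChecked.wperm_val hL, dotv_cwWord hh.toChecked (node_lt hh hc) hL r.2]

theorem rep_parity {m : ℕ} (hm : m < c.reps.length) (r : Fin D.nroots) :
    (dotv D C (cwWord D C c.node c.reps[m]) r.val : ZMod 2) = (coef D C c.node r.val : ZMod 2) := by
  have e : av D C (cwWord D C c.node c.reps[m]) = av D C (funv D c.node) := by
    rw [← av_red hh.toChecked, (rep_spec hh hc hm).2.1]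
  have e' := congrFun e r
  rwa [av_funv hh.toChecked (node_lt hh hc)] at e'

theorem sub_mem {u : Equiv.Perm (Fin D.nroots)}
    (hu : u ∈ weyl hh.toChecked ((Finset.range D.rank).erase c.node)) (r : Fin D.nroots) :
    coef D C c.node (u r).val = coef D C c.node r.val :=
  hh.toChecked.coef_weyl_fixed (fun i hi => Finset.mem_range.1 (Finset.mem_of_mem_erase hi)) (node_lt hh hc)
    (fun e => (Finset.mem_erase.1 e).1 rfl) hu r

theorem coset_mem {u : Equiv.Perm (Fin D.nroots)}
    (hu : u ∈ weyl hh.toChecked ((Finset.range D.rank).erase c.node)) {m : ℕ} (hm : m < c.reps.length) :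
    u * wperm hh.toChecked c.reps[m] ∈ stab hh.toChecked c.node := by
  have h := hh.toChecked
  set x := u * wperm hh.toChecked c.reps[m] with hxd
  have hx : x ∈ weyl h (Finset.range D.rank) :=
    mul_mem (h.weyl_mono (Finset.erase_subset _ _) hu) (h.mem_weyl_of_word (rep_spec hh hc hm).1)
  refine (mem_stab hh).2 ⟨hx, funext fun s => ?_⟩
  obtain ⟨r, rfl⟩ := x.surjective s
  rw [Homocyclic.act_apply, perm_symm_apply, av_funv h (node_lt hh hc), av_funv h (node_lt hh hc), hxd,
    Equiv.Perm.mul_apply, sub_mem hh hc hu, rep_coef hh hc hm, rep_parity hh hc hm]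

theorem card_stab_mul (hos : chkChain D C (List.range D.rank) os = true) :
    (stab hh.toChecked c.node).card * c.orb.length = (os.map fun o => o.orbit.length).prod := by
  classical
  have h := hh.toChecked
  have hcard : Nat.card ↥(weyl h (Finset.range D.rank)) = (os.map fun o => o.orbit.length).prod := by
    have e := hh.poinc_chain (1 : ℕ) os _ hos
    rw [List.toFinset_range, poinc] at e
    simp only [one_pow, Finset.sum_const, smul_eq_mul, mul_one] at e
    rw [Nat.card_eq_fintype_card, Fintype.card_subtype, e]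
    refine congrArg List.prod (List.map_congr_left fun o _ => by simp [orbitSum])
  have ho := hc.orb_ok
  simp only [chkOrb, Bool.and_eq_true, allN_iff, Nat.blt_eq, beq_iff_eq, decide_eq_true_iff, List.all_eq_true,
    natBeq_iff, Nat.ble_eq, Bool.or_eq_true] at ho
  obtain ⟨⟨⟨⟨⟨hhd, hnd⟩, hlen⟩, htgt⟩, hpar⟩, hsz⟩ := ho
  set a0 := av D C (funv D c.node) with ha0
  have h0lt : 0 < c.orb.length := by omega
  have e0 : c.orb[0] = funv D c.node := by
    rw [List.head?_eq_getElem?, List.getElem?_eq_getElem h0lt] at hhd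
    exact Option.some.inj hhd
  have hclosed : ∀ w ∈ weyl h (Finset.range D.rank), ∃ μ ∈ c.orb, act w a0 = av D C μ := by
    intro w hw
    obtain ⟨L, hL, rfl⟩ := h.exists_word_of_weyl hw
    clear hw
    induction L with
    | nil => exact ⟨_, List.getElem_mem h0lt, by rw [wperm_nil, Homocyclic.act_one, e0]⟩
    | cons i L ih =>
      obtain ⟨μ, hμ, e⟩ := ih hL.cons.2
      obtain ⟨m, hm, rfl⟩ := List.mem_iff_getElem.1 hμ
      obtain ⟨ht, et⟩ := htgt m hm i hL.cons.1
      rw [List.getD_eq_getElem _ _ ht, List.getD_eq_getElem _ _ hm] at et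
      exact ⟨_, List.getElem_mem ht, by
        rw [wperm_cons, Homocyclic.act_mul, e, act_av h hL.cons.1, et, av_red h]⟩
  have hreach : ∀ m, (hm : m < c.orb.length) → ∃ w ∈ weyl h (Finset.range D.rank), act w a0 = av D C c.orb[m] := by
    intro m
    induction m using Nat.strong_induction_on with
    | _ m ih =>
      intro hm
      rcases m with _ | m
      · exact ⟨1, one_mem _, by rw [Homocyclic.act_one, e0]⟩
      · obtain ⟨⟨hple, hpi⟩, e⟩ := hpar m (by omega)
        set pe := c.parent.getD m (0, 0) with hpe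
        obtain ⟨w, hw, ew⟩ := ih pe.1 (by omega) (by omega)
        rw [List.getD_eq_getElem _ _ hm, List.getD_eq_getElem _ _ (show pe.1 < c.orb.length by omega)] at e
        exact ⟨sigma h pe.2 * w, mul_mem (h.sigma_mem_weyl (Finset.mem_range.2 hpi)) hw, by
          rw [Homocyclic.act_mul, ew, act_av h hpi, e, av_red h]⟩
  have hinj : ∀ μ ∈ c.orb, ∀ ν ∈ c.orb, av D C μ = av D C ν → μ = ν := fun μ hμ ν hν e =>
    av_injOn h (hlen μ hμ).1 (hlen ν hν).1 (hlen μ hμ).2 (hlen ν hν).2 e
  rw [← hcard, Nat.card_eq_fintype_card, Fintype.card_subtype]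
  refine Eq.trans ?_ (Finset.card_eq_sum_card_fiberwise (t := c.orb.toFinset.image (av D C))
    (f := fun w => act w a0) (fun w hw => by
      obtain ⟨μ, hμ, e⟩ := hclosed w (Finset.mem_filter.1 hw).2
      exact Finset.mem_image.2 ⟨μ, List.mem_toFinset.2 hμ, e.symm⟩)).symm
  have hb : ∀ b ∈ c.orb.toFinset.image (av D C),
      ((Finset.univ.filter fun w => w ∈ weyl h (Finset.range D.rank)).filter fun w => act w a0 = b).card =
        (stab hh.toChecked c.node).card := ?_
  · rw [Finset.sum_congr rfl hb, Finset.sum_const, smul_eq_mul,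
      Finset.card_image_of_injOn (fun μ hμ ν hν e => hinj μ (List.mem_toFinset.1 hμ) ν
        (List.mem_toFinset.1 hν) e), List.toFinset_card_of_nodup hnd, mul_comm]
  intro b hb
  simp only [Finset.mem_image, List.mem_toFinset] at hb
  obtain ⟨μ, hμ, rfl⟩ := hb
  obtain ⟨m, hm, rfl⟩ := List.mem_iff_getElem.1 hμ
  obtain ⟨x, hx, ex⟩ := hreach m hm
  refine Finset.card_bij' (fun w _ => x⁻¹ * w) (fun w _ => x * w) ?_ ?_ (by simp) (by simp)
  · intro w hw
    simp only [Finset.mem_filter, Finset.mem_univ, true_and] at hw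
    exact (mem_stab hh).2 ⟨mul_mem (inv_mem hx) hw.1, by
      rw [← ha0, Homocyclic.act_mul, hw.2, ← ex, ← Homocyclic.act_mul, inv_mul_cancel, Homocyclic.act_one]⟩
  · intro w hw
    obtain ⟨a, b⟩ := (mem_stab hh).1 hw
    simp only [Finset.mem_filter, Finset.mem_univ, true_and]
    exact ⟨mul_mem hx a, by rw [Homocyclic.act_mul, b, ex]⟩

open Classical in
/-- The stabiliser is the union of the cosets of the representatives. -/
theorem stab_eq (hos : chkChain D C (List.range D.rank) os = true) :
    Set.BijOn (fun x : Equiv.Perm (Fin D.nroots) × Fin c.reps.length => x.1 * wperm hh.toChecked c.reps[x.2.val])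
      ↑((Finset.univ.filter fun u => u ∈ weyl hh.toChecked ((Finset.range D.rank).erase c.node)) ×ˢ
        (Finset.univ : Finset (Fin c.reps.length)))
      ↑(stab hh.toChecked c.node) := by
  have h := hh.toChecked
  set S := (Finset.univ.filter fun u => u ∈ weyl hh.toChecked ((Finset.range D.rank).erase c.node)) ×ˢ
        (Finset.univ : Finset (Fin c.reps.length)) with hS
  set f := fun x : Equiv.Perm (Fin D.nroots) × Fin c.reps.length => x.1 * wperm hh.toChecked c.reps[x.2.val]
  have hmaps : ∀ x ∈ S, f x ∈ stab hh.toChecked c.node := fun x hx => by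
    simp only [hS, Finset.mem_product, Finset.mem_filter, Finset.mem_univ, true_and, and_true] at hx
    exact coset_mem hh hc hx x.2.2
  have hinj : Set.InjOn f S := by
    intro x hx y hy e
    have he : x.1 * wperm hh.toChecked c.reps[x.2.val] = y.1 * wperm hh.toChecked c.reps[y.2.val] := e
    simp only [hS, Finset.coe_product, Finset.coe_filter, Finset.mem_univ, true_and, Set.mem_prod,
      Set.mem_setOf_eq] at hx hy
    have hμ : ∀ r : Fin D.nroots,
        dotv D C (cwWord D C c.node c.reps[x.2.val]) r.val = dotv D C (cwWord D C c.node c.reps[y.2.val]) r.val := by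
      intro r
      rw [← rep_coef hh hc x.2.2, ← rep_coef hh hc y.2.2,
        ← sub_mem hh hc hx.1 (wperm hh.toChecked c.reps[x.2.val] r),
        ← sub_mem hh hc hy.1 (wperm hh.toChecked c.reps[y.2.val] r), ← Equiv.Perm.mul_apply,
        ← Equiv.Perm.mul_apply, he]
    have hnd := hc.reps_ok
    simp only [chkReps, Bool.and_eq_true, decide_eq_true_iff] at hnd
    have hlenL : ∀ (L : List ℕ) (μ : List ℤ), μ.length = D.rank →
        (L.foldl (fun μ i => actv D C i μ) μ).length = D.rank := by
      intro L
      induction L with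
      | nil => intro μ hμ; exact hμ
      | cons i L ih => intro μ _; exact ih _ (by simp [actv])
    have hl : ∀ m (hm : m < c.reps.length), (cwWord D C c.node c.reps[m]).length = D.rank := fun m hm =>
      hlenL _ _ (by simp [funv])
    have e2 : cwWord D C c.node c.reps[x.2.val] = cwWord D C c.node c.reps[y.2.val] := by
      refine List.ext_getElem ((hl _ x.2.2).trans (hl _ y.2.2).symm) fun j h1 h2 => ?_
      have hj : j < D.rank := hl _ x.2.2 ▸ h1
      have := hμ ⟨D.simple j, h.simple_lt hj⟩
      rwa [h.dotv_simple _ hj, h.dotv_simple _ hj, List.getD_eq_getElem _ _ h1, List.getD_eq_getElem _ _ h2] at this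
    have exy : x.2 = y.2 := by
      refine Fin.ext ?_
      have hn : (c.reps.map (cwWord D C c.node)).Nodup := hnd.1.1.2
      exact (hn.getElem_inj_iff (hi := by simp) (hj := by simp)).1 (by simpa using e2)
    rw [show c.reps[x.2.val] = c.reps[y.2.val] by simp only [exy]] at he
    exact Prod.ext (mul_right_cancel he) exy
  refine ⟨fun x hx => hmaps x hx, hinj, ?_⟩
  have hcardS : S.card = (stab hh.toChecked c.node).card := by
    have hsub := hc.reps_ok
    simp only [chkReps, Bool.and_eq_true] at hsub
    have e := hh.poinc_chain (1 : ℕ) c.sub _ hsub.1.1.1.1.2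
    rw [show ((List.range D.rank).filter fun i => !Nat.beq i c.node).toFinset = (Finset.range D.rank).erase c.node by
      ext i; simp [natBeq_eq, and_comm], poinc] at e
    simp only [one_pow, Finset.sum_const, smul_eq_mul, mul_one] at e
    have e1 : (c.sub.map fun o => orbitSum D C o (1 : ℕ)) = c.sub.map fun o => o.orbit.length :=
      List.map_congr_left fun o _ => by simp [orbitSum]
    rw [hS, Finset.card_product, e, e1, Finset.card_univ, Fintype.card_fin]
    have h1 := card_stab_mul hh hc hos
    have h2 := hc.count_ok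
    simp only [chkCount, natBeq_iff] at h2
    have ho := hc.orb_ok
    simp only [chkOrb, Bool.and_eq_true, natBeq_iff] at ho
    exact Nat.eq_of_mul_eq_mul_right (show 0 < c.orb.length by omega) (h2.trans h1.symm)
  intro w hw
  have himg : S.image f = stab hh.toChecked c.node := Finset.eq_of_subset_of_card_le
    (Finset.image_subset_iff.2 hmaps) (by rw [Finset.card_image_of_injOn hinj, hcardS])
  rw [← himg, Finset.coe_image] at hw
  exact hw

/-- An involution of the stabiliser negates a root of even value. -/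
theorem exists_negated_stab (hos : chkChain D C (List.range D.rank) os = true) {v : Equiv.Perm (Fin D.nroots)}
    (hv : v ∈ stab hh.toChecked c.node) (h2 : v * v = 1) (h1 : v ≠ 1) :
    ∃ β, av D C (funv D c.node) β = 0 ∧ v β = ngF D β := by
  have h := hh.toChecked
  have hk := node_lt hh hc
  induction hn : (invs v).card using Nat.strong_induction_on generalizing v with
  | _ n ih =>
  obtain ⟨hvW, hva⟩ := (mem_stab hh).1 hv
  by_cases hex : ∃ j, ∃ hj : j < D.rank, j ≠ c.node ∧ srootF h hj ∈ invs v
  · obtain ⟨j, hj, hjk, hf⟩ := hex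
    have hzero : av D C (funv D c.node) (srootF h hj) = 0 := by
      rw [av_funv h hk, show ((srootF h hj : Fin D.nroots) : ℕ) = D.simple j from rfl, (h.simple_tab hj hk).2.1,
        if_neg hjk, Int.cast_zero]
    by_cases he : v (srootF h hj) = ngF D (srootF h hj)
    · exact ⟨_, hzero, he⟩
    have hinvar : ∀ β, av D C (funv D c.node) (sigma h j β) = av D C (funv D c.node) β := fun β => by
      rw [av_funv h hk, av_funv h hk, h.sigma_val hj, h.coef_refl hj hk β.2, if_neg (Ne.symm hjk), sub_zero]
    have hfixj : act (sigma h j) (av D C (funv D c.node)) = av D C (funv D c.node) := by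
      funext β; rw [Homocyclic.act_apply, h.sigma_inv, hinvar]
    obtain ⟨a, b, d⟩ := conj_sigma_facts hh hvW h2 h1 j
    obtain ⟨β, hβ0, hβ⟩ := ih _ (hn ▸ card_invs_conj_lt hh hvW h2 hj hf he)
      ((mem_stab hh).2 ⟨a, by rw [Homocyclic.act_mul, Homocyclic.act_mul, hfixj, hva, hfixj]⟩) b d rfl
    refine ⟨sigma h j β, by rw [hinvar, hβ0], ?_⟩
    have hβ' := congrArg (sigma h j) hβ
    rw [Equiv.Perm.mul_apply, Equiv.Perm.mul_apply, ← Equiv.Perm.mul_apply (sigma h j) (sigma h j),
      h.sigma_sigma, Equiv.Perm.one_apply, h.weyl_neg (h.sigma_mem_weyl (Finset.mem_range.2 hj))] at hβ'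
    exact hβ'
  · obtain ⟨⟨u, m⟩, hum, e⟩ := (stab_eq hh hc hos).2.2 hv
    simp only [Finset.coe_product, Finset.coe_filter, Finset.mem_univ, true_and, Set.mem_prod,
      Set.mem_setOf_eq] at hum
    simp only at e
    obtain ⟨hL, -, hminrep, halt⟩ := rep_spec hh hc m.2
    have huW : u ∈ weyl h (Finset.range D.rank) := h.weyl_mono (Finset.erase_subset _ _) hum.1
    have hu1 : u = 1 := by
      refine hh.eq_one_of_invs huW (Finset.eq_empty_of_forall_notMem fun s hs => ?_)
      rw [h.mem_invs_lt] at hs
      have hs0 : coef D C c.node s.val = 0 := by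
        have a := h.coef_nonneg hk s.2 hs.1
        have b := h.coef_nonpos hk hs.2
        rw [sub_mem hh hc hum.1] at b
        omega
      set V := wperm hh.toChecked c.reps[m.val] with hV
      set r := V⁻¹ s with hr
      have hVr : V r = s := perm_apply_symm V s
      have hμr : dotv D C (cwWord D C c.node c.reps[m.val]) r.val = 0 := by
        rw [← rep_coef hh hc m.2, ← hV, hVr, hs0]
      have hVW : V ∈ weyl h (Finset.range D.rank) := h.mem_weyl_of_word hL
      have hm2 := h.two_mul_half
      have hrpos : D.nroots / 2 ≤ r.val := by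
        by_contra hlt
        have hμ' : dotv D C (cwWord D C c.node c.reps[m.val]) (ngF D r).val = 0 := by
          rw [← rep_coef hh hc m.2, ← hV, h.weyl_neg hVW, hVr]
          simp only [ngF, h.coef_neg hk s.2, hs0, neg_zero]
        have := hminrep _ (by simp only [ngF, ng]; omega) (ngF D r).2 hμ'
        rw [← h.wperm_val hL (ngF D r), ← hV, h.weyl_neg hVW, hVr] at this
        simp only [ngF, ng] at this
        omega
      have hvr : (v r).val < D.nroots / 2 := by rw [← e, Equiv.Perm.mul_apply, hVr]; exact hs.2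
      set s' := ngF D (v r) with hs'
      have hs'0 : coef D C c.node s'.val = 0 := by
        simp only [hs', ngF]
        rw [h.coef_neg hk (v r).2, ← e, Equiv.Perm.mul_apply, hVr, sub_mem hh hc hum.1, hs0, neg_zero]
      have hvs' : v s' = ngF D r := by
        rw [hs', h.weyl_neg hvW, ← Equiv.Perm.mul_apply, h2, Equiv.Perm.one_apply]
      have hneg := h.ht_neg_of_neg (show (ngF D r).val < D.nroots / 2 by simp only [ngF, ng]; omega)
      rw [← hvs', h.ht_weyl hvW] at hneg
      obtain ⟨l, -, hl⟩ := Finset.exists_lt_of_sum_lt (g := fun _ : Fin D.rank => (0 : ℤ))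
        (lt_of_lt_of_eq hneg (by simp))
      have hlk : l.val ≠ c.node := by
        intro el
        rw [show coef D C l.val s'.val = 0 by rw [el]; exact hs'0, zero_mul] at hl
        exact lt_irrefl _ hl
      have hcl := h.coef_nonneg l.2 s'.2 (by simp only [hs', ngF, ng]; omega)
      have hpl : D.nroots / 2 ≤ (v (srootF h l.2)).val := by
        by_contra hlt
        exact hex ⟨l, l.2, hlk, h.mem_invs_lt.2 ⟨(h.simple_spec l.2).2, by omega⟩⟩
      have := h.ht_pos (v (srootF h l.2)).2 hpl
      have := mul_nonneg hcl this.le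
      exact absurd hl (not_lt.2 this)
    rw [hu1, one_mul] at e
    rcases halt with h0 | ⟨r, hr, hne⟩ | ⟨r, hr, hneg, hev⟩
    · exfalso
      refine h1 (hh.eq_one_of_invs hvW (Finset.eq_empty_of_forall_notMem fun r hr => ?_))
      have hfix : ∀ x : Fin D.nroots, coef D C c.node (v x).val = coef D C c.node x.val := fun x => by
        rw [← e, rep_coef hh hc m.2, h0, h.dotv_funv hk]
      obtain ⟨i, hi, hiK, hf⟩ := hh.exists_simple_flip
        (K := (Finset.range D.rank).erase c.node) (fun i hi => Finset.mem_range.1 (Finset.mem_of_mem_erase hi))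
        (hh.mem_weyl_erase (fun i hi => Finset.mem_range.1 hi) (Finset.mem_range.2 hk) hvW hfix) h1
      exact hex ⟨i, hi, (Finset.mem_erase.1 hiK).1, hf⟩
    · exfalso
      refine hne ?_
      have := congrArg (fun p : Equiv.Perm (Fin D.nroots) => (p ⟨r, hr⟩).val) h2
      simpa [← e, h.wperm_val hL] using this
    · refine ⟨⟨r, hr⟩, ?_, Fin.ext ?_⟩
      · rw [av_funv h hk, ZMod.intCast_zmod_eq_zero_iff_dvd]
        exact Int.dvd_of_emod_eq_zero hev
      · rw [← e, h.wperm_val hL]; exact hneg

end Class

end Cfsg.Agent.Lib.H59.Invol
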