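import Cfsg.Agent.Lib.H59.Invol.Lower
import Cfsg.Agent.Lib.H59.Invol.Parity

/-!
The centraliser of an involution of the split torus.
-/

set_option autoImplicit false

namespace Cfsg.Agent.Lib.H59.Invol

open Cfsg.Lie Cfsg.Agent.Lib.Chev
open Cfsg.Agent.Lib.ChevCent (xg word)
open Cfsg.Agent.Lib.H59.Homocyclic (srootF act tor CW zval)
open scoped Matrix

variable {D : ChevalleyDatum} {C : Cert} {F : Type*} [Field F]

/-- The positive roots of even value. -/
def evenPos (D : ChevalleyDatum) (C : Cert) (k : ℕ) : Set ℕ := {r | r ∈ posSet D ∧ coef D C k r % 2 = 0}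

/-- The number of positive roots of even value. -/
def evenCount (D : ChevalleyDatum) (C : Cert) (k : ℕ) : ℕ :=
  ((List.range' (D.nroots / 2) (D.nroots / 2)).filter fun r => decide (coef D C k r % 2 = 0)).length

theorem natCard_list (l : List ℕ) (hl : l.Nodup) (S : Set ℕ) (hS : ∀ r, r ∈ S ↔ r ∈ l) : Nat.card ↥S = l.length := by
  rw [show S = ↑l.toFinset from Set.ext fun r => by simp [hS], Nat.card_coe_set_eq, Set.ncard_coe_finset,
    List.toFinset_card_of_nodup hl]

variable (hh : Rooted D C)
include hh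

theorem card_evenPos (k : ℕ) : Nat.card ↥(evenPos D C k) = evenCount D C k := by
  have hm := hh.toChecked.two_mul_half
  refine natCard_list _ (List.Nodup.filter _ List.nodup_range') _ fun r => ?_
  simp only [evenPos, posSet, Set.mem_setOf_eq, List.mem_filter, List.mem_range'_1, decide_eq_true_iff]
  constructor
  · rintro ⟨⟨a, b⟩, c⟩; exact ⟨⟨a, by omega⟩, c⟩
  · rintro ⟨⟨a, b⟩, c⟩; exact ⟨⟨a, by omega⟩, c⟩

theorem closedSet_evenPos {k : ℕ} (hk : k < D.rank) : ClosedSet D C (evenPos D C k) := by
  intro r hr s hs _ _ c hc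
  have h := hh.toChecked
  refine ⟨(h.cTerms_pos hr.1 hs.1 hc).1, ?_⟩
  obtain ⟨-, -, -, hφ⟩ := h.cTerms_spec hr.1.2 hs.1.2 c hc
  rw [hφ _ (h.isAdd_coef hk), ← Int.dvd_iff_emod_eq_zero]
  exact dvd_add (dvd_mul_of_dvd_right (Int.dvd_of_emod_eq_zero hr.2) _)
    (dvd_mul_of_dvd_right (Int.dvd_of_emod_eq_zero hs.2) _)

theorem closedSet_inter {S T : Set ℕ} (hS : ClosedSet D C S) (hT : ClosedSet D C T) : ClosedSet D C (S ∩ T) :=
  fun r hr s hs a b c hc => ⟨hS r hr.1 s hs.1 a b c hc, hT r hr.2 s hs.2 a b c hc⟩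

theorem av_funv_eq_zero_iff {k : ℕ} (hk : k < D.rank) (r : Fin D.nroots) :
    av D C (funv D k) r = 0 ↔ coef D C k r.val % 2 = 0 := by
  rw [av_funv hh.toChecked hk, ZMod.intCast_zmod_eq_zero_iff_dvd, ← Int.dvd_iff_emod_eq_zero]
  rfl

variable {B : Matrix (Fin D.rank) (Fin D.rank) ℤ} (hB : cmMat D C * B = 1)
include hB

/-- The positive unipotent elements commuting with the torus element. -/
theorem commute_iff (h2F : (2 : F) ≠ 0) {k : ℕ} (hk : k < D.rank) {u : GL D.Idx F} (hu : u ∈ D.posUnipotent F) :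
    Commute (tor (z2 F) (Multiplicative.ofAdd (av D C (funv D k)))) u ↔ u ∈ rootGen D F (evenPos D C k) := by
  have h := hh.toChecked
  have ha := av_mem (C := C) h hB (funv D k)
  constructor
  · intro hc
    obtain ⟨co, rfl⟩ := ChevCent.exists_word_of_mem_pos hh hu
    have hpos : ∀ r ∈ D.posRoots, r ∈ posSet D := fun r hr => h.mem_posRoots.1 hr
    have e : word h D.posRoots (fun r => (zval (z2 F) (av D C (funv D k)) r : F) * co r) = word h D.posRoots co := by
      rw [← Homocyclic.tor_conj_word h ha _ (fun r hr => (hpos r hr).2) co, hc.eq, mul_inv_cancel_right]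
    have e2 := ChevCent.word_injective hh h.posRoots_pairwise hpos e
    refine list_prod_mem fun x hx => ?_
    obtain ⟨r, hr, rfl⟩ := List.mem_map.1 hx
    by_cases h0 : co r = 0
    · rw [h0, ChevCent.xg_zero]; exact one_mem _
    refine mem_rootGen (t := co r) ⟨hpos r hr, ?_⟩ (by rw [ChevCent.coe_xg])
    have e3 : (zval (z2 F) (av D C (funv D k)) r : F) = 1 := (mul_eq_right₀ h0).1 (e2 r hr)
    rw [zval, dif_pos (hpos r hr).2] at e3
    exact (av_funv_eq_zero_iff hh hk ⟨r, (hpos r hr).2⟩).1 (Multiplicative.ofAdd.injective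
      (z2_injective h2F ((Units.ext e3).trans (map_one (z2 F)).symm)))
  · intro hm
    clear hu
    induction hm using Subgroup.closure_induction with
    | mem g hg =>
      obtain ⟨r, t, hr, e⟩ := hg
      have hg : g = xg h r t := Units.ext (by rw [e, ChevCent.coe_xg])
      have := Homocyclic.tor_conj_xg (z := z2 F) h ha ⟨r, hr.1.2⟩ t
      rw [(av_funv_eq_zero_iff hh hk ⟨r, hr.1.2⟩).2 hr.2, ofAdd_zero, map_one, Units.val_one, one_mul,
        mul_inv_eq_iff_eq_mul] at this
      rw [hg]
      exact this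
    | one => exact Commute.one_right _
    | mul a b _ _ x y => exact x.mul_right y
    | inv a _ x => exact x.inv_right

/-- The centraliser counted cell by cell. -/
theorem card_centralizer_sum [Fintype F] (h2F : (2 : F) ≠ 0) {k : ℕ} (hk : k < D.rank)
    (hs : tor (z2 F) (Multiplicative.ofAdd (av D C (funv D k))) ∈ D.group F) :
    Nat.card ↥(Subgroup.centralizer
      ({⟨tor (z2 F) (Multiplicative.ofAdd (av D C (funv D k))), hs⟩} : Set ↥(D.group F))) =
      Fintype.card F ^ evenCount D C k * Nat.card ↥(D.diagonalSubgroup F) *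
        ∑ w ∈ stab hh.toChecked k, Fintype.card F ^ ((invs w).filter fun r => av D C (funv D k) r = 0).card := by
  classical
  have h := hh.toChecked
  set a := av D C (funv D k) with haDef
  have ha : a ∈ CW D (ZMod 2) := av_mem h hB _
  set s := tor (z2 F) (Multiplicative.ofAdd a) with hsDef
  have hsT : s ∈ D.diagonalSubgroup F := Homocyclic.tor_mem h hh ha
  have hex : ∀ w : ↥(stab h k), ∃ L, IsWord D L ∧ wperm h L = w.1 := fun w =>
    h.exists_word_of_weyl ((mem_stab hh).1 w.2).1
  choose Lw hLw eLw using hex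
  have hUmem : ∀ S : Set ℕ, S ⊆ posSet D → rootGen D F S ≤ D.posUnipotent F := fun S hS => by
    rw [h.posUnipotent_eq]; exact rootGen_mono hS
  have hcU : ∀ S : Set ℕ, S ⊆ evenPos D C k → ∀ u ∈ rootGen D F S, Commute s u := fun S hS u hu =>
    (commute_iff hh hB h2F hk (hUmem S (fun r hr => (hS hr).1) hu)).2 (rootGen_mono hS hu)
  have hnL : ∀ w : ↥(stab h k), Commute s (nProd hh.toChecked F (Lw w)) := fun w => by
    have := Homocyclic.nProd_conj_tor (K := F) (z := z2 F) h (hLw w) a
    rw [eLw, ((mem_stab hh).1 w.2).2] at this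
    exact this.symm
  have hT : ∀ t ∈ D.diagonalSubgroup F, Commute s t := fun t ht => hh.diagonal_commute hsT ht
  let J : ↥(stab h k) → Set ℕ := fun w => invSet D C (Lw w) ∩ evenPos D C k
  let val : (Σ w : ↥(stab h k),
      ↥(rootGen D F (evenPos D C k)) × ↥(D.diagonalSubgroup F) × ↥(rootGen D F (J w))) → GL D.Idx F :=
    fun x => (x.2.1 : GL D.Idx F) * x.2.2.1 * nProd hh.toChecked F (Lw x.1) * x.2.2.2
  have hJ : ∀ w, rootGen D F (J w) ≤ rootGen D F (invSet D C (Lw w)) := fun w =>
    rootGen_mono Set.inter_subset_left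
  have hmemG : ∀ x, val x ∈ D.group F := fun x =>
    mul_mem (mul_mem (mul_mem (h.posUnipotent_le_group (hUmem _ (fun r hr => hr.1) x.2.1.2))
      (hh.diagonal_le_group x.2.2.1.2)) (hh.monomial_le_group (hh.nProd_mem_monomial (hLw x.1))))
      (h.posUnipotent_le_group (hUmem _ (fun r hr => hr.2.1) x.2.2.2.2))
  have hmemC : ∀ x, (⟨val x, hmemG x⟩ : ↥(D.group F)) ∈ Subgroup.centralizer ({⟨s, hs⟩} : Set ↥(D.group F)) := by
    intro x
    rw [Subgroup.mem_centralizer_singleton_iff]
    exact Subtype.ext ((((hcU _ subset_rfl _ x.2.1.2).mul_right (hT _ x.2.2.1.2)).mul_right (hnL x.1)).mul_right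
      (hcU _ Set.inter_subset_right _ x.2.2.2.2)).eq.symm
  have hbor : ∀ (u : ↥(rootGen D F (evenPos D C k))) (t : ↥(D.diagonalSubgroup F)),
      (u : GL D.Idx F) * t ∈ D.borelSubgroup F := fun u t =>
    mul_mem (Subgroup.mem_sup_left (hUmem _ (fun r hr => hr.1) u.2)) (Subgroup.mem_sup_right t.2)
  have hinj : Function.Injective val := by
    rintro ⟨w, u, t, v⟩ ⟨w', u', t', v'⟩ e
    simp only [val] at e
    have hw : w = w' := by
      refine Subtype.ext ?_
      rw [← eLw w, ← eLw w']
      have h1 := hh.canonical_mem (hLw w) (hbor u t) (hJ w v.2)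
      have h2 := hh.canonical_mem (hLw w') (hbor u' t') (hJ w' v'.2)
      rw [e] at h1
      exact (hh.wperm_eq_of_diag (hLw w') (hLw w) (F := F) (hh.diag_mem_of_mem_doubleCoset
        (hh.nProd_mem_monomial (hLw w')) (hh.nProd_mem_monomial (hLw w)) h2 h1))
    subst hw
    obtain ⟨eb, ev⟩ := hh.canonical_unique (hLw w) (hbor u t) (hbor u' t') (hJ w v.2) (hJ w v'.2) e
    have e1 : (u' : GL D.Idx F)⁻¹ * u = 1 := by
      refine Subgroup.mem_bot.1 (hh.posUnipotent_inf_diagonal.le (Subgroup.mem_inf.2
        ⟨mul_mem (inv_mem (hUmem _ (fun r hr => hr.1) u'.2)) (hUmem _ (fun r hr => hr.1) u.2), ?_⟩))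
      rw [show (u' : GL D.Idx F)⁻¹ * u = t' * (t : GL D.Idx F)⁻¹ by
        rw [eq_mul_inv_iff_mul_eq, mul_assoc, eb, inv_mul_cancel_left]]
      exact mul_mem t'.2 (inv_mem t.2)
    have e2 : u' = u := Subtype.ext (inv_mul_eq_one.1 e1)
    subst e2
    have e3 : t = t' := Subtype.ext (mul_left_cancel eb)
    subst e3
    rw [show v = v' from Subtype.ext ev]
  have hsurj : ∀ g : ↥(D.group F), g ∈ Subgroup.centralizer ({⟨s, hs⟩} : Set ↥(D.group F)) →
      ∃ x, val x = g.1 := by
    intro g hg
    rw [Subgroup.mem_centralizer_singleton_iff] at hg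
    have hgs : (g : GL D.Idx F) * s = s * g := congrArg Subtype.val hg
    obtain ⟨L, hL, b, hb, v, hv, eg⟩ := hh.exists_canonical g.2
    obtain ⟨u, hu, t, ht, rfl⟩ := hh.mem_borel_iff.1 hb
    set n := nProd hh.toChecked F L
    set sw := tor (z2 F) (Multiplicative.ofAdd (act (wperm h L) a)) with hsw
    have hswT : sw ∈ D.diagonalSubgroup F :=
      Homocyclic.tor_mem h hh (Homocyclic.act_mem h (h.mem_weyl_of_word hL) ha)
    have hns : n * s = sw * n := Homocyclic.nProd_conj_tor h hL a
    have hv' : s⁻¹ * v * s ∈ rootGen D F (invSet D C L) := by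
      have := (Subgroup.mem_normalizer_iff.1 (inv_mem (hh.diagonal_le_normalizer
        (S := invSet D C L) h.invSet_lt hsT)) v).1 hv
      simpa using this
    have e : s * (u * t) * n * v = u * t * sw * n * (s⁻¹ * v * s) := by
      calc s * (u * t) * n * v = s * (u * t * n * v) := by group
        _ = u * t * n * v * s := by rw [← eg, hgs]
        _ = u * t * (n * s) * (s⁻¹ * v * s) := by group
        _ = _ := by rw [hns]; group
    obtain ⟨eb, ev⟩ := hh.canonical_unique hL (mul_mem (Subgroup.mem_sup_right hsT) hb)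
      (mul_mem hb (Subgroup.mem_sup_right hswT)) hv hv' e
    have hsu : s * u * s⁻¹ ∈ D.posUnipotent F :=
      (Subgroup.mem_normalizer_iff.1 (hh.diagonal_le_normalizer_posUnipotent hsT) u).1 hu
    have e1 : (s * u * s⁻¹)⁻¹ * u = s * t * (t * sw)⁻¹ := by
      calc (s * u * s⁻¹)⁻¹ * u = s * u⁻¹ * s⁻¹ * (u * t * sw) * (t * sw)⁻¹ := by group
        _ = _ := by rw [← eb]; group
    have e2 : (s * u * s⁻¹)⁻¹ * u = 1 := by
      refine Subgroup.mem_bot.1 (hh.posUnipotent_inf_diagonal.le
        (Subgroup.mem_inf.2 ⟨mul_mem (inv_mem hsu) hu, ?_⟩))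
      rw [e1]
      exact mul_mem (mul_mem hsT ht) (inv_mem (mul_mem ht hswT))
    have e3 : s = sw := by
      rw [e2, eq_comm, mul_inv_eq_one, hh.diagonal_commute hsT ht] at e1
      exact mul_left_cancel e1
    have hfix : act (wperm h L) a = a :=
      (Multiplicative.ofAdd.injective (Homocyclic.tor_injective (z2_injective h2F) e3)).symm
    have hcu : Commute s u := mul_inv_eq_iff_eq_mul.1 (inv_mul_eq_one.1 e2)
    have hcv : Commute s v := by
      have : s * v = s * (s⁻¹ * v * s) := by rw [← ev]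
      exact this.trans (by group)
    let w : ↥(stab h k) := ⟨wperm h L, (mem_stab hh).2 ⟨h.mem_weyl_of_word hL, hfix⟩⟩
    have hew : wperm h (Lw w) = wperm h L := eLw w
    obtain hd := hh.diag_of_wperm_eq (F := F) (hLw w) hL hew
    set d := (nProd hh.toChecked F (Lw w))⁻¹ * n with hdd
    obtain ⟨d', hd', ed'⟩ := hh.nProd_conj_diag (hLw w) hd
    have hinv : invSet D C (Lw w) = invSet D C L := by
      ext r
      simp only [invSet, negSet, Set.mem_setOf_eq]
      refine and_congr_right fun hr => ?_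
      rw [(h.wperm_eq_iff (hLw w) hL).1 hew r hr.2]
    have hvU : v ∈ D.posUnipotent F := hUmem _ (h.invSet_subset L) hv
    have hv0 : v ∈ rootGen D F (J w) := by
      show v ∈ rootGen D F (invSet D C (Lw w) ∩ evenPos D C k)
      rw [hinv]
      have hve := (commute_iff hh hB h2F hk hvU).1 hcv
      obtain ⟨x, hx, y, hy, exy⟩ := h.exists_split (evenPos D C k) hvU
      -- both splittings agree
      obtain ⟨co, hco⟩ := ChevCent.exists_word_of_mem_pos hh hvU
      have hcl := closedSet_inter hh (h.closedSet_invSet hL) (closedSet_evenPos hh hk)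
      have hpos : ∀ r ∈ D.posRoots, r ∈ posSet D := fun r hr => h.mem_posRoots.1 hr
      have key : ∀ S : Set ℕ, S ⊆ posSet D → ClosedSet D C S → v ∈ rootGen D F S →
          ∀ r ∈ D.posRoots, r ∉ S → co r = 0 := by
        intro S hS hScl hvS r hr hrS
        have hlist : ({r | r ∈ D.posRoots.filter fun r => decide (r ∈ S)} : Set ℕ) = S := by
          ext x
          simp only [List.mem_filter, Set.mem_setOf_eq, decide_eq_true_iff]
          exact ⟨fun a => a.2, fun a => ⟨h.mem_posRoots.2 (hS a), a⟩⟩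
        obtain ⟨f, -, ef⟩ := h.exists_prod (D.posRoots.filter fun r => decide (r ∈ S))
          (h.posRoots_pairwise.filter _) (fun x hx => hpos x (List.mem_of_mem_filter hx)) (by rw [hlist]; exact hScl) v
          (by rw [hlist]; exact hvS)
        have e4 : word h D.posRoots (fun x => if x ∈ S then f x else 0) = v := by
          refine Units.ext ?_
          rw [ef, ← ChevCent.coe_word h]
          congr 1
          simp only [word]
          generalize D.posRoots = l
          induction l with
          | nil => rfl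
          | cons x l ih =>
            by_cases hx : x ∈ S
            · rw [List.filter_cons_of_pos (by simpa using hx)]
              simp [List.map_cons, List.prod_cons, hx, ih]
            · rw [List.filter_cons_of_neg (by simpa using hx)]
              simp [List.map_cons, List.prod_cons, hx, ih, ChevCent.xg_zero]
        rw [hco] at e4
        have := ChevCent.word_injective hh h.posRoots_pairwise hpos e4 r hr
        simpa [hrS] using this.symm
      rw [hco]
      refine list_prod_mem fun z hz => ?_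
      obtain ⟨r, hr, rfl⟩ := List.mem_map.1 hz
      by_cases h0 : co r = 0
      · rw [h0, ChevCent.xg_zero]; exact one_mem _
      refine mem_rootGen (t := co r) ⟨?_, ?_⟩ (by rw [ChevCent.coe_xg])
      · by_contra hn; exact h0 (key _ (h.invSet_subset L) (h.closedSet_invSet hL) hv r hr hn)
      · by_contra hn; exact h0 (key _ (fun r hr => hr.1) (closedSet_evenPos hh hk) hve r hr hn)
    refine ⟨⟨w, ⟨u, (commute_iff hh hB h2F hk hu).1 hcu⟩, ⟨t * d', mul_mem ht hd'⟩, ⟨v, hv0⟩⟩, ?_⟩
    rw [eg]
    show u * (t * d') * nProd hh.toChecked F (Lw w) * v = u * t * n * v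
    rw [mul_assoc u (t * d'), mul_assoc t d', ← ed', hdd, mul_inv_cancel_left]
    group
  have hbij : Function.Bijective (fun x =>
      (⟨⟨val x, hmemG x⟩, hmemC x⟩ : ↥(Subgroup.centralizer ({⟨s, hs⟩} : Set ↥(D.group F))))) := by
    refine ⟨fun x y e => hinj (congrArg (fun z => (z.1.1 : GL D.Idx F)) e), fun g => ?_⟩
    obtain ⟨x, hx⟩ := hsurj g.1 g.2
    exact ⟨x, Subtype.ext (Subtype.ext hx)⟩
  rw [← Nat.card_congr (Equiv.ofBijective _ hbij), Nat.card_sigma, ← Finset.sum_coe_sort (stab h k), Finset.mul_sum]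
  refine Finset.sum_congr rfl fun w _ => ?_
  rw [Nat.card_prod, Nat.card_prod, hh.card_rootGen (fun r hr => hr.1) (closedSet_evenPos hh hk), card_evenPos hh,
    hh.card_rootGen (S := J w) (fun r hr => hr.2.1)
      (closedSet_inter hh (h.closedSet_invSet (hLw w)) (closedSet_evenPos hh hk)), ← mul_assoc]
  congr 2
  have e : J w = Fin.val '' (((invs w.1).filter fun r => a r = 0 : Finset (Fin D.nroots)) : Set (Fin D.nroots)) := by
    ext r
    simp only [J, invSet, negSet, evenPos, posSet, Set.mem_inter_iff, Set.mem_setOf_eq, Set.mem_image,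
      Finset.coe_filter, h.mem_invs_lt, ← eLw w, h.wperm_val (hLw w)]
    constructor
    · rintro ⟨⟨⟨a1, b1⟩, c1⟩, -, c2⟩
      exact ⟨⟨r, b1⟩, ⟨⟨a1, c1⟩, (av_funv_eq_zero_iff hh hk ⟨r, b1⟩).2 c2⟩, rfl⟩
    · rintro ⟨x, ⟨⟨a1, c1⟩, c2⟩, rfl⟩
      exact ⟨⟨⟨a1, x.2⟩, c1⟩, ⟨a1, x.2⟩, (av_funv_eq_zero_iff hh hk x).1 c2⟩
  rw [e, Nat.card_coe_set_eq, Set.ncard_image_of_injective _ Fin.val_injective, Set.ncard_coe_finset]

/-- The order of the centraliser. -/
theorem card_centralizer [Fintype F] (h2F : (2 : F) ≠ 0) {os : List OrbitCert} {c : ClassCert}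
    (hc : ClassOK D C os c) (hos : chkChain D C (List.range D.rank) os = true) {sd : List ℕ}
    (hsm : SmithOK D C sd) (hsd : ∀ i < D.rank, sd.getD i 0 = 1) {ds : List ℕ}
    (hp : chkPolyC D C c ds = true)
    (hs : tor (z2 F) (Multiplicative.ofAdd (av D C (funv D c.node))) ∈ D.group F) :
    Nat.card ↥(Subgroup.centralizer
      ({⟨tor (z2 F) (Multiplicative.ofAdd (av D C (funv D c.node))), hs⟩} : Set ↥(D.group F))) =
      Fintype.card F ^ evenCount D C c.node * (ds.map fun d => Fintype.card F ^ d - 1).prod := by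
  classical
  have h := hh.toChecked
  have hk := node_lt hh hc
  rw [card_centralizer_sum hh hB h2F hk hs, mul_assoc]
  congr 1
  have hT : Nat.card ↥(D.diagonalSubgroup F) = (Fintype.card F - 1) ^ D.rank := by
    have := hh.card_diagonal (F := F) hsm
    rwa [Finset.prod_eq_one (fun i _ => by rw [hsd i.val i.2, Nat.gcd_one_right]), one_mul] at this
  set q := Fintype.card F with hq
  have hb := stab_eq hh hc hos
  have hterm : ∀ x ∈ (Finset.univ.filter fun u => u ∈ weyl h ((Finset.range D.rank).erase c.node)) ×ˢ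
      (Finset.univ : Finset (Fin c.reps.length)),
      q ^ ((invs (x.1 * wperm h c.reps[x.2.val])).filter fun r => av D C (funv D c.node) r = 0).card =
        q ^ (invs x.1).card * q ^ depth0 D C c.node (cwWord D C c.node c.reps[x.2.val]) := by
    intro x hx
    simp only [Finset.mem_product, Finset.mem_filter, Finset.mem_univ, true_and, and_true] at hx
    obtain ⟨hL, -, hmin, -⟩ := rep_spec hh hc x.2.2
    set V := wperm h c.reps[x.2.val] with hV
    set μ := cwWord D C c.node c.reps[x.2.val] with hμd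
    have hVW : V ∈ weyl h (Finset.range D.rank) := h.mem_weyl_of_word hL
    have hminV : ∀ r ∈ invs V, dotv D C μ r.val ≠ 0 := by
      intro r hr h0
      rw [h.mem_invs_lt, hV, h.wperm_val hL] at hr
      have := hmin r.val hr.1 r.2 h0
      omega
    have e := hh.card_invs_mul (fun i hi => Finset.mem_range.1 hi) (Finset.mem_range.2 hk)
      (μ := fun r => dotv D C μ r) hVW (rep_coef hh hc x.2.2) hminV hx
    set A := Finset.univ.filter fun r : Fin D.nroots => D.nroots / 2 ≤ r.val ∧ dotv D C μ r.val < 0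
    have hpar : ∀ r : Fin D.nroots, av D C (funv D c.node) r = 0 ↔ (dotv D C μ r.val) % 2 = 0 := fun r => by
      rw [av_funv h hk, ← rep_parity hh hc x.2.2, ← hμd, ZMod.intCast_zmod_eq_zero_iff_dvd, ← Int.dvd_iff_emod_eq_zero]
      rfl
    have e1 : (invs (x.1 * V)).filter (fun r => ¬ av D C (funv D c.node) r = 0) =
        A.filter (fun r => ¬ av D C (funv D c.node) r = 0) := by
      ext r
      simp only [Finset.mem_filter, h.mem_invs_lt, A, Finset.mem_univ, true_and]
      refine and_congr_left fun hne => and_congr_right fun hp' => ?_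
      have hc1 : coef D C c.node ((x.1 * V) r).val = dotv D C μ r.val := by
        rw [Equiv.Perm.mul_apply, sub_mem hh hc hx, rep_coef hh hc x.2.2]
      have hne' : dotv D C μ r.val ≠ 0 := fun e0 => hne ((hpar r).2 (by rw [e0]; rfl))
      constructor
      · intro hn
        have := h.coef_nonpos hk hn
        omega
      · intro hn
        by_contra hge
        have := h.coef_nonneg hk ((x.1 * V) r).2 (by omega)
        omega
    have e2 : (A.filter fun r => av D C (funv D c.node) r = 0).card = depth0 D C c.node μ := by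
      have hm2 := h.two_mul_half
      rw [depth0, ← List.toFinset_card_of_nodup (List.Nodup.filter _ List.nodup_range'),
        ← Finset.card_map Fin.valEmbedding]
      refine congrArg Finset.card (Finset.ext fun y => ?_)
      simp only [Finset.mem_map, Finset.mem_filter, A, Finset.mem_univ, true_and, Fin.valEmbedding_apply,
        List.mem_toFinset, List.mem_filter, List.mem_range'_1, Bool.and_eq_true, decide_eq_true_iff,
        av_funv_eq_zero_iff hh hk]
      constructor
      · rintro ⟨r, ⟨⟨a, b⟩, cc⟩, rfl⟩; exact ⟨⟨a, by have := r.2; omega⟩, b, cc⟩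
      · rintro ⟨⟨a, a'⟩, b, cc⟩; exact ⟨⟨y, by omega⟩, ⟨⟨a, b⟩, cc⟩, rfl⟩
    have s1 := Finset.card_filter_add_card_filter_not (s := invs (x.1 * V)) (fun r => av D C (funv D c.node) r = 0)
    have s2 := Finset.card_filter_add_card_filter_not (s := A) (fun r => av D C (funv D c.node) r = 0)
    rw [← pow_add]
    congr 1
    rw [e1] at s1
    omega
  rw [show ∑ w ∈ stab h c.node, q ^ ((invs w).filter fun r => av D C (funv D c.node) r = 0).card =
      ∑ x ∈ (Finset.univ.filter fun u => u ∈ weyl h ((Finset.range D.rank).erase c.node)) ×ˢ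
        (Finset.univ : Finset (Fin c.reps.length)),
        q ^ (invs x.1).card * q ^ depth0 D C c.node (cwWord D C c.node c.reps[x.2.val]) from
    (Finset.sum_bij (fun x _ => x.1 * wperm h c.reps[x.2.val]) (fun x hx => hb.mapsTo hx)
      (fun x hx y hy e => hb.injOn hx hy e) (fun w hw => by
        obtain ⟨x, hx, e⟩ := hb.surjOn hw; exact ⟨x, hx, e⟩) (fun x hx => (hterm x hx).symm)).symm,
    Finset.sum_product]
  dsimp only
  simp only [← Finset.mul_sum, ← Finset.sum_mul]
  have hsub := hc.reps_ok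
  simp only [chkReps, Bool.and_eq_true] at hsub
  have e0 := hh.poinc_chain (q : ℤ) c.sub _ hsub.1.1.1.1.2
  rw [show ((List.range D.rank).filter fun i => !Nat.beq i c.node).toFinset = (Finset.range D.rank).erase c.node by
    ext i; simp [natBeq_eq, and_comm], poinc] at e0
  have hpev := pev_eq_zero (q : ℤ) _ hp
  rw [pev_padd, pev_pscale, pev_pmul, pev_pmul, pev_foldr_pmul, pev_foldr_pmul, pev_foldr_pmul, pev_foldr_padd,
    List.map_map, List.map_map, List.map_map, List.map_replicate, List.prod_replicate] at hpev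
  have f1 : pev (q : ℤ) [-1, 1] = (q : ℤ) - 1 := by simp [pev]; ring
  have f2 : (pev (q : ℤ) ∘ orbitPoly D C) = fun o => orbitSum D C o (q : ℤ) :=
    funext fun o => pev_orbitPoly D C o _
  have f3 : (pev (q : ℤ) ∘ fun d => padd (pmono d) [-1]) = fun d => (q : ℤ) ^ d - 1 :=
    funext fun d => by simp [pev_padd, pev_pmono, pev, sub_eq_add_neg]
  have f4 : (c.reps.map (pev (q : ℤ) ∘ fun L => pmono (depth0 D C c.node (cwWord D C c.node L)))).sum =
      ∑ m : Fin c.reps.length, (q : ℤ) ^ depth0 D C c.node (cwWord D C c.node c.reps[m.val]) := by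
    conv_lhs => rw [← List.ofFn_getElem (xs := c.reps), List.map_ofFn, List.sum_ofFn]
    exact Finset.sum_congr rfl fun m _ => pev_pmono _ _
  rw [f1, f2, f3, f4, ← e0] at hpev
  have hq1 : 1 ≤ q := Fintype.card_pos
  rw [hT]
  apply Nat.cast_injective (R := ℤ)
  push_cast [Nat.cast_sub hq1]
  rw [List.map_map,
    show ((fun n : ℕ => (n : ℤ)) ∘ fun d => q ^ d - 1) = fun d => (q : ℤ) ^ d - 1 from funext fun d => by
      simp only [Function.comp_apply]
      rw [Nat.cast_sub (Nat.one_le_pow _ _ hq1)]; simp]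
  simp only [Finset.sum_mul] at hpev ⊢
  linear_combination hpev

end Cfsg.Agent.Lib.H59.Invol
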