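import Cfsg.Agent.Lib.H59.Invol.Main
import Cfsg.Agent.Lib.Chev.PoincareF4

/-! Certificates for the involution classes of type F4 (written out by a script from the root tables). -/

set_option autoImplicit false

namespace Cfsg.Agent.Lib.H59.Invol.F4

open Cfsg.Lie Cfsg.Agent.Lib.Chev

/-- A parabolic orbit. -/
def sub0_0 : OrbitCert where
  node := 3
  orbit := [[0, 0, 0, 1], [0, 0, 1, -1], [0, 1, -1, 0], [1, -1, 1, 0], [1, 0, -1, 1], [1, 0, 0, -1]]
  parent := [(0, 3), (1, 2), (2, 1), (3, 2), (4, 3)]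
  target := [[0, 0, 1], [1, 2, 0], [3, 1, 2], [2, 4, 3], [4, 3, 5], [5, 5, 4]]

/-- A parabolic orbit. -/
def sub0_1 : OrbitCert where
  node := 1
  orbit := [[0, 1, 0, 0], [1, -1, 2, 0], [1, 1, -2, 2], [2, -1, 0, 2]]
  parent := [(0, 1), (1, 2), (2, 1)]
  target := [[1, 0], [0, 2], [3, 1], [2, 3]]

/-- A parabolic orbit. -/
def sub0_2 : OrbitCert where
  node := 2
  orbit := [[0, 0, 1, 0], [0, 1, -1, 1]]
  parent := [(0, 2)]
  target := [[1], [0]]

/-- A class of involutions. -/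
def cls0 : ClassCert where
  node := 0
  reps := [[], [0, 1, 2, 1, 0], [0, 1, 2, 1, 0, 3], [0, 1, 2, 1, 0, 3, 2], [0, 1, 2, 1, 0, 3, 2, 1],
    [0, 1, 2, 1, 0, 3, 2, 1, 2], [0, 1, 2, 1, 0, 3, 2, 1, 2, 3],
    [0, 1, 2, 1, 0, 3, 2, 1, 0, 2, 1, 3, 2, 1, 0]]
  sub := [sub0_0, sub0_1, sub0_2]
  orb := [[1, 0, 0, 0], [1, 1, 0, 0], [0, 1, 0, 0]]
  parent := [(0, 0), (1, 1)]
  target := [[1, 0, 0, 0], [0, 2, 1, 1], [2, 1, 2, 2]]
  neg := [0, 6, 0, 0, 0, 0, 0, 3]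

theorem cls0_reps : chkReps chevF4 F4.cert cls0 = true := by decide +kernel

theorem cls0_orb : chkOrb chevF4 F4.cert cls0 = true := by decide +kernel

theorem cls0_count : chkCount F4.orbits cls0 = true := by decide +kernel

theorem cls0_poly : chkPolyC chevF4 F4.cert cls0 [2, 4, 6, 8] = true := by decide +kernel

theorem cls0_even : evenCount chevF4 F4.cert cls0.node = 16 := by decide +kernel

/-- A parabolic orbit. -/
def sub1_0 : OrbitCert where
  node := 0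
  orbit := [[1, 0, 0, 0], [-1, 1, 0, 0], [0, -1, 2, 0], [0, 1, -2, 2], [1, -1, 0, 2], [-1, 0, 0, 2]]
  parent := [(0, 0), (1, 1), (2, 2), (3, 1), (4, 0)]
  target := [[1, 0, 0], [0, 2, 1], [2, 1, 3], [3, 4, 2], [5, 3, 4], [4, 5, 5]]

/-- A parabolic orbit. -/
def sub1_1 : OrbitCert where
  node := 1
  orbit := [[0, 1, 0, 0], [1, -1, 2, 0], [1, 1, -2, 2], [2, -1, 0, 2]]
  parent := [(0, 1), (1, 2), (2, 1)]
  target := [[1, 0], [0, 2], [3, 1], [2, 3]]

/-- A parabolic orbit. -/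
def sub1_2 : OrbitCert where
  node := 2
  orbit := [[0, 0, 1, 0], [0, 1, -1, 1]]
  parent := [(0, 2)]
  target := [[1], [0]]

/-- A class of involutions. -/
def cls1 : ClassCert where
  node := 3
  reps := [[], [3, 2, 1, 0, 2, 1, 2, 3, 2, 1, 0, 2, 1, 2, 3]]
  sub := [sub1_0, sub1_1, sub1_2]
  orb := [[0, 0, 0, 1], [0, 0, 1, 1], [0, 1, 1, 0], [1, 1, 1, 0], [1, 0, 1, 0], [1, 0, 1, 1], [1, 1, 1, 1],
    [1, 0, 0, 1], [0, 1, 1, 1], [1, 1, 0, 1], [0, 0, 1, 0], [0, 1, 0, 1]]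
  parent := [(0, 3), (1, 2), (2, 1), (3, 0), (3, 2), (4, 2), (5, 3), (6, 1), (6, 3), (8, 2), (8, 3)]
  target := [[0, 0, 0, 1], [1, 1, 2, 0], [2, 3, 1, 2], [4, 2, 5, 3], [3, 4, 6, 4], [6, 5, 3, 7], [5, 8, 4, 9],
    [9, 7, 7, 5], [8, 6, 10, 11], [7, 11, 9, 6], [10, 10, 8, 10], [11, 9, 11, 8]]
  neg := [0, 0]

theorem cls1_reps : chkReps chevF4 F4.cert cls1 = true := by decide +kernel

theorem cls1_orb : chkOrb chevF4 F4.cert cls1 = true := by decide +kernel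

theorem cls1_count : chkCount F4.orbits cls1 = true := by decide +kernel

theorem cls1_poly : chkPolyC chevF4 F4.cert cls1 [2, 2, 4, 6] = true := by decide +kernel

theorem cls1_even : evenCount chevF4 F4.cert cls1.node = 10 := by decide +kernel

theorem cover : chkCover chevF4 cls0 cls1 = true := by decide +kernel

end Cfsg.Agent.Lib.H59.Invol.F4
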