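import Cfsg.Agent.Lib.Chev.Bruhat
import Mathlib.GroupTheory.PGroup
import Mathlib.FieldTheory.Finite.Basic

/-!
In odd characteristic every involution of a Chevalley group is conjugate to a monomial one.
-/

set_option autoImplicit false

namespace Cfsg.Agent.Lib.H59.Invol

open Cfsg.Lie Cfsg.Agent.Lib.Chev
open scoped Matrix

variable {D : ChevalleyDatum} {C : Cert} {F : Type*} [Field F]

theorem wperm_sq (hh : Rooted D C) {L : List ℕ} (hL : IsWord D L)
    (h2 : nProd hh.toChecked F L * nProd hh.toChecked F L ∈ D.diagonalSubgroup F) :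
    wperm hh.toChecked L * wperm hh.toChecked L = 1 := by
  have hnil : IsWord D ([] : List ℕ) := List.forall_mem_nil _
  have h := hh.wperm_eq_of_diag (F := F) hnil (hL.append hL) (by
    rw [show nProd hh.toChecked F ([] : List ℕ) = 1 from by simp [nProd], inv_one, one_mul, nProd_append]
    exact h2)
  rwa [wperm_append, wperm_nil] at h

theorem exists_monomial (hh : Rooted D C) [Fintype F] (p : ℕ) [Fact p.Prime] [CharP F p] (hp : p ≠ 2)
    {u : GL D.Idx F} (hu : u ∈ D.group F) (h2 : u * u = 1) :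
    ∃ g ∈ D.group F, ∃ (L : List ℕ) (t : GL D.Idx F), IsWord D L ∧ t ∈ D.diagonalSubgroup F ∧
      g * u * g⁻¹ = t * nProd hh.toChecked F L ∧
      wperm hh.toChecked L * wperm hh.toChecked L = 1 := by
  have h := hh.toChecked
  obtain ⟨L, hL, b, hb, u2, hu2, rfl⟩ := hh.exists_canonical hu
  set n := nProd hh.toChecked F L with hn
  have hu2U : u2 ∈ D.posUnipotent F := by
    rw [h.posUnipotent_eq]; exact rootGen_mono (h.invSet_subset L) hu2
  have hnM : n ∈ D.monomialSubgroup F := hh.nProd_mem_monomial hL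
  have hnn : n * n ∈ D.diagonalSubgroup F := by
    have h1 := hh.canonical_mem hL hb hu2
    have h3 : b * n * u2 ∈ DoubleCoset.doubleCoset n⁻¹ (D.borelSubgroup F : Set (GL D.Idx F))
        (D.borelSubgroup F) := by
      refine DoubleCoset.mem_doubleCoset.2 ⟨u2⁻¹, inv_mem (Subgroup.mem_sup_left hu2U), b⁻¹, inv_mem hb, ?_⟩
      calc b * n * u2 = (b * n * u2)⁻¹ := eq_inv_of_mul_eq_one_left h2
        _ = u2⁻¹ * n⁻¹ * b⁻¹ := by group
    have := hh.diag_mem_of_mem_doubleCoset hnM (inv_mem hnM) h1 h3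
    simpa [mul_inv_rev] using inv_mem this
  obtain ⟨v, hv, t, ht, evt⟩ := hh.mem_borel_iff.1 (mul_mem (Subgroup.mem_sup_left hu2U) hb)
  set m := t * n with hm
  have hu' : u2 * (b * n * u2) * u2⁻¹ = v * m := by
    rw [hm, ← mul_assoc v t, ← evt]; group
  have hsq : v * m * (v * m) = 1 := by
    rw [← hu']
    calc u2 * (b * n * u2) * u2⁻¹ * (u2 * (b * n * u2) * u2⁻¹)
        = u2 * ((b * n * u2) * (b * n * u2)) * u2⁻¹ := by group
      _ = 1 := by rw [h2]; group
  obtain ⟨t', ht', et'⟩ := hh.nProd_conj_diag hL ht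
  have hmm : m * m ∈ D.diagonalSubgroup F := by
    rw [hm, show t * n * (t * n) = t * (n * t) * n by group, et', show t * (t' * n) * n = t * t' * (n * n) by group]
    exact mul_mem (mul_mem ht ht') hnn
  set N := m * v * m⁻¹ with hN
  have eN : N = v⁻¹ * (m * m)⁻¹ := by
    calc N = v⁻¹ * ((v * m) * (v * m)) * (m * m)⁻¹ := by rw [hN]; group
      _ = v⁻¹ * (m * m)⁻¹ := by rw [hsq]; group
  -- the part of `v` which `m` sends to the negative side is trivial
  obtain ⟨a, ha, b', hb', rfl⟩ := h.exists_split (invSet D C L) hv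
  have hpos : m * a * m⁻¹ ∈ D.posUnipotent F := by
    have h1 := h.conj_posSet_sdiff_le hL ha
    have := (Subgroup.mem_normalizer_iff.1 (hh.diagonal_le_normalizer_posUnipotent ht) _).1 h1
    rw [hm, show t * n * a * (t * n)⁻¹ = t * (n * a * n⁻¹) * t⁻¹ by group]
    exact this
  have hneg : m * b' * m⁻¹ ∈ D.negUnipotent F := by
    have h1 := h.conj_invSet_le hL (rootGen_mono Set.inter_subset_right hb')
    have := (Subgroup.mem_normalizer_iff.1 (hh.diagonal_le_normalizer_negUnipotent ht) _).1 h1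
    rw [hm, show t * n * b' * (t * n)⁻¹ = t * (n * b' * n⁻¹) * t⁻¹ by group]
    exact this
  have hb1 : b' = 1 := by
    have h1 : m * b' * m⁻¹ ∈ D.borelSubgroup F := by
      have : m * b' * m⁻¹ = (m * a * m⁻¹)⁻¹ * N := by rw [hN]; group
      rw [this, eN]
      exact mul_mem (inv_mem (Subgroup.mem_sup_left hpos))
        (mul_mem (inv_mem (Subgroup.mem_sup_left hv)) (inv_mem (Subgroup.mem_sup_right hmm)))
    exact conj_eq_one_iff.1 (Subgroup.mem_bot.1 (hh.borel_inf_negUnipotent.le (Subgroup.mem_inf.2 ⟨h1, hneg⟩)))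
  subst hb1
  simp only [mul_one] at hv hsq hu' evt hN eN ⊢
  have hone : m * m = 1 := by
    have h1 : (m * m)⁻¹ ∈ D.posUnipotent F ⊓ D.diagonalSubgroup F := by
      refine Subgroup.mem_inf.2 ⟨?_, inv_mem hmm⟩
      have : (m * m)⁻¹ = a * N := by rw [eN]; group
      rw [this, hN]
      exact mul_mem hv hpos
    rw [hh.posUnipotent_inf_diagonal, Subgroup.mem_bot, inv_eq_one] at h1
    exact h1
  rw [hone, inv_one, mul_one] at eN
  -- square root
  obtain ⟨⟨e, he⟩, -⟩ : (∃ e : ℕ, Fintype.card F = p ^ e) ∧ True := by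
    obtain ⟨e, -, he⟩ := FiniteField.card F p
    exact ⟨⟨e, he⟩, trivial⟩
  have hU : IsPGroup p ↥(D.posUnipotent F) :=
    IsPGroup.of_card (n := e * (D.nroots / 2)) (by rw [hh.card_posUnipotent, he, pow_mul])
  obtain ⟨k, hk⟩ := hU ⟨a, hv⟩
  have hk' : a ^ p ^ k = 1 := congrArg Subtype.val hk
  have hodd : Odd (p ^ k) := ((Fact.out : p.Prime).odd_of_ne_two hp).pow
  obtain ⟨j, hj⟩ := hodd
  set y := a ^ (j + 1) with hy
  have hyy : y * y = a := by
    rw [hy, ← pow_add, show j + 1 + (j + 1) = p ^ k + 1 by omega, pow_succ, hk', one_mul]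
  have hθy : m * y * m⁻¹ = y⁻¹ := by
    rw [hy, ← conj_pow, ← hN, eN, inv_pow]
  refine ⟨y⁻¹ * u2, mul_mem (inv_mem (pow_mem (h.posUnipotent_le_group hv) _)) (h.posUnipotent_le_group hu2U),
    L, t, hL, ht, ?_, wperm_sq hh hL hnn⟩
  calc y⁻¹ * u2 * (b * n * u2) * (y⁻¹ * u2)⁻¹ = y⁻¹ * (u2 * (b * n * u2) * u2⁻¹) * y := by group
    _ = y⁻¹ * (a * m) * y := by rw [hu']
    _ = y * (m * y * m⁻¹) * m := by rw [← hyy]; group
    _ = t * n := by rw [hθy, ← hm]; group

end Cfsg.Agent.Lib.H59.Invol
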