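import Cfsg.Agent.Lib.H59.Invol.Step
import Cfsg.Agent.Lib.H59.Invol.Monomial
import Cfsg.Agent.Lib.H59.Homocyclic.Main
import Cfsg.Agent.Lib.H59.Homocyclic.WeylMatrix
import Mathlib.FieldTheory.IsAlgClosed.AlgebraicClosure

/-!
In odd characteristic the involutions of a simply connected and adjoint Chevalley group come from the split torus.
-/

set_option autoImplicit false

namespace Cfsg.Agent.Lib.H59.Invol

open Cfsg.Lie Cfsg.Agent.Lib.Chev Cfsg.Agent.Lib.ChevField
open Cfsg.Agent.Lib.H59.Homocyclic (srootF act tor CW zcoord)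
open scoped Matrix

/-- The homomorphism onto the signs. -/
def z2 (F : Type*) [Field F] : Multiplicative (ZMod 2) →* Fˣ :=
  MonoidHom.mk' (fun a => (-1 : Fˣ) ^ a.toAdd.val) fun a b => by
    rw [← pow_add, toAdd_mul, ZMod.val_add]
    exact (pow_eq_pow_mod _ (by simp)).symm

theorem z2_injective {F : Type*} [Field F] (h2 : (2 : F) ≠ 0) : Function.Injective (z2 F) := by
  intro a b e
  have hne : (-1 : Fˣ) ≠ 1 := by
    intro h
    have h' := congrArg Units.val h
    rw [Units.val_neg, Units.val_one] at h'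
    exact h2 (by linear_combination -h')
  have hval : ∀ x : ZMod 2, x = 0 ∨ x = 1 := by decide
  rcases hval a.toAdd with ha | ha <;> rcases hval b.toAdd with hb | hb
  · exact Multiplicative.toAdd.injective (ha.trans hb.symm)
  · simp [z2, ha, hb, ZMod.val_one] at e; exact absurd e.symm hne
  · simp [z2, ha, hb, ZMod.val_one] at e; exact absurd e hne
  · exact Multiplicative.toAdd.injective (ha.trans hb.symm)

variable {D : ChevalleyDatum} {C : Cert}

theorem glMap_tor {F K : Type*} [Field F] [Field K] (f : F →+* K) (a : Fin D.nroots → ZMod 2) :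
    glMap D f (tor (z2 F) (Multiplicative.ofAdd a)) = tor (z2 K) (Multiplicative.ofAdd a) := by
  refine Units.ext ?_
  rw [coe_glMap, Homocyclic.coe_tor, Homocyclic.coe_tor, charDiag_map]
  congr 1
  funext s
  unfold Homocyclic.zval
  split_ifs with hs
  · simp [z2]
  · simp

variable {K : Type*} [Field K]

/-- The effect on the negated roots of multiplying by the reflection at one of them. -/
theorem lower_facts (hh : Rooted D C) {x v : Equiv.Perm (Fin D.nroots)}
    (hx : x ∈ weyl hh.toChecked (Finset.range D.rank)) (hv : v ∈ weyl hh.toChecked (Finset.range D.rank))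
    (h2 : v * v = 1) {i : ℕ} (hi : i < D.rank)
    (hα : (x⁻¹ * v * x) (srootF hh.toChecked hi) = ngF D (srootF hh.toChecked hi))
    (hc : x⁻¹ * v * x * sigma hh.toChecked i = sigma hh.toChecked i * (x⁻¹ * v * x)) :
    x * (sigma hh.toChecked i * (x⁻¹ * v * x)) * x⁻¹ *
        (x * (sigma hh.toChecked i * (x⁻¹ * v * x)) * x⁻¹) = 1 ∧
      (Finset.univ.filter fun γ => (x * (sigma hh.toChecked i * (x⁻¹ * v * x)) * x⁻¹) γ = ngF D γ).card <
        (Finset.univ.filter fun γ => v γ = ngF D γ).card ∧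
      ∀ γ, (x * (sigma hh.toChecked i * (x⁻¹ * v * x)) * x⁻¹) γ = ngF D γ →
        v γ = ngF D γ ∧ sigma hh.toChecked i (x⁻¹ γ) = x⁻¹ γ := by
  have h := hh.toChecked
  set v1 := x⁻¹ * v * x with hv1
  have hv1W : v1 ∈ weyl h (Finset.range D.rank) := mul_mem (mul_mem (inv_mem hx) hv) hx
  have hv12 : v1 * v1 = 1 := by
    calc v1 * v1 = x⁻¹ * (v * v) * x := by rw [hv1]; group
      _ = 1 := by rw [h2]; group
  have key : ∀ γ, (x * (sigma h i * v1) * x⁻¹) γ = ngF D γ →
      v γ = ngF D γ ∧ sigma h i (x⁻¹ γ) = x⁻¹ γ ∧ γ ≠ x (srootF h hi) := by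
    intro γ hγ
    rw [Equiv.Perm.mul_apply, Equiv.Perm.mul_apply] at hγ
    have hγ1 := congrArg (⇑x⁻¹) hγ
    rw [perm_symm_apply, h.weyl_neg (inv_mem hx)] at hγ1
    obtain ⟨a, b, c⟩ := negated_of_sigma_mul hh hv1W hv12 hi hα hγ1
    refine ⟨?_, b, fun e => c (by rw [e, perm_symm_apply])⟩
    have := congrArg x a
    rwa [hv1, Equiv.Perm.mul_apply, Equiv.Perm.mul_apply, perm_apply_symm, perm_apply_symm, h.weyl_neg hx,
      perm_apply_symm] at this
  refine ⟨?_, ?_, fun γ hγ => ⟨(key γ hγ).1, (key γ hγ).2.1⟩⟩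
  · calc x * (sigma h i * v1) * x⁻¹ * (x * (sigma h i * v1) * x⁻¹)
        = x * (sigma h i * (v1 * sigma h i) * v1) * x⁻¹ := by group
      _ = x * ((sigma h i * sigma h i) * (v1 * v1)) * x⁻¹ := by rw [hc]; group
      _ = 1 := by rw [h.sigma_sigma, hv12]; group
  · refine Finset.card_lt_card (Finset.ssubset_iff_subset_ne.2 ⟨fun γ hγ => ?_, fun e => ?_⟩)
    · simp only [Finset.mem_filter, Finset.mem_univ, true_and] at hγ ⊢
      exact (key γ hγ).1
    · have hmem : x (srootF h hi) ∈ Finset.univ.filter fun γ => v γ = ngF D γ := by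
        simp only [Finset.mem_filter, Finset.mem_univ, true_and]
        have := congrArg x hα
        rwa [hv1, Equiv.Perm.mul_apply, Equiv.Perm.mul_apply, perm_apply_symm, h.weyl_neg hx] at this
      rw [← e] at hmem
      simp only [Finset.mem_filter, Finset.mem_univ, true_and] at hmem
      exact (key _ hmem).2.2 rfl

variable (hh : Rooted D C) (hs : Twisted.chkEtaSigns D C = true)
include hh hs

/-- Reaching the torus over the closed field. -/
theorem exists_torus (σ : K →+* K) (h2K : (2 : K) ≠ 0) (hsq : ∀ x : K, ∃ c, c * c = x)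
    {u : GL D.Idx K} (hu : glMap D σ u = u) :
    ∀ (n : ℕ) (g : GL D.Idx K) (v p : Equiv.Perm (Fin D.nroots)),
      (Finset.univ.filter fun γ => v γ = ngF D γ).card = n → g ∈ D.group K →
      IsMono hh.toChecked (g * u * g⁻¹) v → v * v = 1 → IsMono hh.toChecked (glMap D σ g * g⁻¹) p → p * p = 1 →
      (∀ γ, v γ = ngF D γ → p γ = γ) →
      ∃ g' ∈ D.group K, g' * u * g'⁻¹ ∈ D.diagonalSubgroup K ∧
        ∃ p', IsMono hh.toChecked (glMap D σ g' * g'⁻¹) p' ∧ p' * p' = 1 := by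
  intro n
  induction n using Nat.strong_induction_on with
  | _ n ih =>
  intro g v p hn hg hv h2 hp hp2 hfix
  have h := hh.toChecked
  by_cases h1 : v = 1
  · subst h1; exact ⟨g, hg, hv.diag_of_one hh, p, hp, hp2⟩
  obtain ⟨β, hβ⟩ := exists_negated hh hv.mem_weyl h2 h1
  obtain ⟨x, hx, i, hi, rfl⟩ := Homocyclic.exists_conj_simple hh β
  obtain ⟨L, hL, rfl⟩ := h.exists_word_of_weyl hx
  set x := wperm h L with hxd
  set N := nProd hh.toChecked K L with hN
  have hNm : IsMono hh.toChecked N x := isMono_nProd h hL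
  have hσN : glMap D σ N = N := glMap_nProd h σ L
  have hh1 := (hNm.inv hh).conj hh hv
  have he1 := (hNm.inv hh).conj hh hp
  rw [inv_inv] at hh1 he1
  have hα : (x⁻¹ * v * x) (srootF h hi) = ngF D (srootF h hi) := by
    rw [Equiv.Perm.mul_apply, Equiv.Perm.mul_apply, hβ, h.weyl_neg (inv_mem hx), perm_symm_apply]
  have hpα : (x⁻¹ * p * x) (srootF h hi) = srootF h hi := by
    rw [Equiv.Perm.mul_apply, Equiv.Perm.mul_apply, hfix _ hβ, perm_symm_apply]
  simp only [inv_inv] at hh1 he1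
  have hσh : glMap D σ (N⁻¹ * (g * u * g⁻¹) * N) =
      N⁻¹ * (glMap D σ g * g⁻¹) * N * (N⁻¹ * (g * u * g⁻¹) * N) * (N⁻¹ * (glMap D σ g * g⁻¹) * N)⁻¹ := by
    simp only [map_mul, map_inv, hσN, hu]; group
  obtain ⟨y, hy, hyh, hye⟩ := lower_involution hh hs σ h2K hsq hi hh1 hα he1 hpα hσh
  obtain ⟨f2, flt, ffix⟩ := lower_facts hh hx hv.mem_weyl h2 hi hα (sigma_commute hh hs hh1 hi (Or.inr hα))
  have hcp := sigma_commute hh hs he1 hi (Or.inl hpα)
  have hmy := hNm.conj hh hyh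
  rw [show N * (y * (N⁻¹ * (g * u * g⁻¹) * N) * y⁻¹) * N⁻¹ =
    N * y * N⁻¹ * g * u * (N * y * N⁻¹ * g)⁻¹ by group] at hmy
  have hg' : N * y * N⁻¹ * g ∈ D.group K :=
    mul_mem (mul_mem (mul_mem (hNm.mem_group hh) hy) (inv_mem (hNm.mem_group hh))) hg
  have ee : ∀ z : Equiv.Perm (Fin D.nroots),
      IsMono hh.toChecked (glMap D σ y * (N⁻¹ * (glMap D σ g * g⁻¹) * N) * y⁻¹) z →
      IsMono hh.toChecked (glMap D σ (N * y * N⁻¹ * g) * (N * y * N⁻¹ * g)⁻¹) (x * z * x⁻¹) := by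
    intro z hz
    have := hNm.conj hh hz
    rwa [show N * (glMap D σ y * (N⁻¹ * (glMap D σ g * g⁻¹) * N) * y⁻¹) * N⁻¹ =
      glMap D σ (N * y * N⁻¹ * g) * (N * y * N⁻¹ * g)⁻¹ by simp only [map_mul, map_inv, hσN]; group] at this
  rcases hye with hye | hye
  · refine ih _ (hn ▸ flt) _ _ _ rfl hg' hmy f2 (ee _ hye) ?_ fun γ hγ => ?_
    · calc x * (x⁻¹ * p * x) * x⁻¹ * (x * (x⁻¹ * p * x) * x⁻¹) = p * p := by group
        _ = 1 := hp2
    · obtain ⟨a, -⟩ := ffix γ hγ
      rw [show x * (x⁻¹ * p * x) * x⁻¹ = p by group]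
      exact hfix γ a
  · refine ih _ (hn ▸ flt) _ _ _ rfl hg' hmy f2 (ee _ hye) ?_ fun γ hγ => ?_
    · calc x * (sigma h i * (x⁻¹ * p * x)) * x⁻¹ * (x * (sigma h i * (x⁻¹ * p * x)) * x⁻¹)
          = x * (sigma h i * ((x⁻¹ * p * x) * sigma h i) * (x⁻¹ * p * x)) * x⁻¹ := by group
        _ = x * ((sigma h i * sigma h i) * x⁻¹ * (p * p) * x) * x⁻¹ := by rw [hcp]; group
        _ = 1 := by rw [h.sigma_sigma, hp2]; group
    · obtain ⟨a, b⟩ := ffix γ hγ
      simp only [Equiv.Perm.mul_apply]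
      rw [perm_apply_symm, hfix γ a, b, perm_apply_symm]

/-- Removing the twist. -/
theorem exists_untwisted (σ : K →+* K) (h2K : (2 : K) ≠ 0) (hnorm : ∀ x : K, ∃ c, c * σ c = x)
    {a : Fin D.nroots → ZMod 2} (ha : a ∈ CW D (ZMod 2))
    (hroot : ∀ p ∈ weyl hh.toChecked (Finset.range D.rank), p * p = 1 → p ≠ 1 → act p a = a →
      ∃ β, a β = 0 ∧ p β = ngF D β)
    {u : GL D.Idx K} (hu : glMap D σ u = u) :
    ∀ (n : ℕ) (g : GL D.Idx K) (p : Equiv.Perm (Fin D.nroots)),
      (Finset.univ.filter fun γ => p γ = ngF D γ).card = n → g ∈ D.group K →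
      g * u * g⁻¹ = tor (z2 K) (Multiplicative.ofAdd a) →
      IsMono hh.toChecked (glMap D σ g * g⁻¹) p → p * p = 1 →
      ∃ g' ∈ D.group K, g' * u * g'⁻¹ = tor (z2 K) (Multiplicative.ofAdd a) ∧
        glMap D σ g' * g'⁻¹ ∈ D.diagonalSubgroup K := by
  intro n
  induction n using Nat.strong_induction_on with
  | _ n ih =>
  intro g p hn hg hga hp hp2
  have h := hh.toChecked
  by_cases h1 : p = 1
  · subst h1; exact ⟨g, hg, hga, hp.diag_of_one hh⟩
  have hpa : act p a = a := by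
    have e1 := hp.conj_tor hh (z := z2 K) ha
    have e2 : glMap D σ g * g⁻¹ * tor (z2 K) (Multiplicative.ofAdd a) * (glMap D σ g * g⁻¹)⁻¹ =
        tor (z2 K) (Multiplicative.ofAdd a) := by
      conv_rhs => rw [← glMap_tor (F := K) σ a, ← hga]
      conv_lhs => rw [← hga]
      simp only [map_mul, map_inv, hu]
      group
    exact Multiplicative.ofAdd.injective (Homocyclic.tor_injective (z2_injective h2K) (e1.symm.trans e2))
  obtain ⟨β, hβ0, hβ⟩ := hroot p hp.mem_weyl hp2 h1 hpa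
  obtain ⟨x, hx, i, hi, rfl⟩ := Homocyclic.exists_conj_simple hh β
  obtain ⟨L, hL, rfl⟩ := h.exists_word_of_weyl hx
  set x := wperm h L with hxd
  set N := nProd hh.toChecked K L with hN
  have hNm : IsMono hh.toChecked N x := isMono_nProd h hL
  have hσN : glMap D σ N = N := glMap_nProd h σ L
  have he1 := (hNm.inv hh).conj hh hp
  simp only [inv_inv] at he1
  have hα : (x⁻¹ * p * x) (srootF h hi) = ngF D (srootF h hi) := by
    rw [Equiv.Perm.mul_apply, Equiv.Perm.mul_apply, hβ, h.weyl_neg (inv_mem hx), perm_symm_apply]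
  have h0 : act x⁻¹ a (srootF h hi) = 0 := by rw [Homocyclic.act_apply, inv_inv]; exact hβ0
  have ha1 := Homocyclic.act_mem (R := ZMod 2) h (inv_mem hx) ha
  obtain ⟨y, hy, hyc, hye⟩ := lower_twist hh hs σ h2K hnorm (z := z2 K) hi he1 hα ha1 h0
  obtain ⟨f2, flt, -⟩ := lower_facts hh hx hp.mem_weyl hp2 hi hα (sigma_commute hh hs he1 hi (Or.inr hα))
  have hg' : N * y * N⁻¹ * g ∈ D.group K :=
    mul_mem (mul_mem (mul_mem (hNm.mem_group hh) hy) (inv_mem (hNm.mem_group hh))) hg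
  have hga' : N * y * N⁻¹ * g * u * (N * y * N⁻¹ * g)⁻¹ = tor (z2 K) (Multiplicative.ofAdd a) := by
    have e1 := (hNm.inv hh).conj_tor hh (z := z2 K) ha
    rw [inv_inv] at e1
    calc N * y * N⁻¹ * g * u * (N * y * N⁻¹ * g)⁻¹ = N * y * (N⁻¹ * (g * u * g⁻¹) * N) * y⁻¹ * N⁻¹ := by group
      _ = N * (N⁻¹ * tor (z2 K) (Multiplicative.ofAdd a) * N) * N⁻¹ := by
        rw [hga, e1, mul_assoc N y, hyc.eq]; group
      _ = _ := by group
  have hye' := hNm.conj hh hye
  rw [show N * (glMap D σ y * (N⁻¹ * (glMap D σ g * g⁻¹) * N) * y⁻¹) * N⁻¹ =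
    glMap D σ (N * y * N⁻¹ * g) * (N * y * N⁻¹ * g)⁻¹ by simp only [map_mul, map_inv, hσN]; group] at hye'
  exact ih _ (hn ▸ flt) _ _ rfl hg' hga' hye' f2

/-- Every involution is conjugate to a torus element of order two. -/
theorem exists_conj_tor {F : Type*} [Field F] [Fintype F] (hodd : Odd (Fintype.card F))
    {B : Matrix (Fin D.rank) (Fin D.rank) ℤ} (hB : cmMat D C * B = 1)
    (hroot : ∀ a ∈ CW D (ZMod 2), a ≠ 0 → ∀ p ∈ weyl hh.toChecked (Finset.range D.rank), p * p = 1 → p ≠ 1 →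
      act p a = a → ∃ β, a β = 0 ∧ p β = ngF D β)
    {u : GL D.Idx F} (hu : u ∈ D.group F) (h2 : u * u = 1) (h1 : u ≠ 1) :
    ∃ a ∈ CW D (ZMod 2), a ≠ 0 ∧ ∃ g ∈ D.group F, g * u * g⁻¹ = tor (z2 F) (Multiplicative.ofAdd a) := by
  classical
  have h := hh.toChecked
  obtain ⟨p, hpc⟩ := CharP.exists F
  haveI := hpc
  haveI : Fact p.Prime := ⟨CharP.char_is_prime F p⟩
  have hp2 : p ≠ 2 := by
    rintro rfl
    obtain ⟨e, -, he⟩ := FiniteField.card F 2
    exact (Nat.not_even_iff_odd.2 hodd) (by rw [he]; exact (Nat.even_pow' e.ne_zero).2 even_two)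
  have h2F : (2 : F) ≠ 0 := fun e => hp2 (by
    have := (CharP.cast_eq_zero_iff F p 2).1 (by exact_mod_cast e)
    exact (Nat.prime_dvd_prime_iff_eq Fact.out Nat.prime_two).1 this)
  let K := AlgebraicClosure F
  let f : F →+* K := algebraMap F K
  let σ : K →+* K := (FiniteField.frobeniusAlgHom F K : K →ₐ[F] K).toRingHom
  set q := Fintype.card F with hq
  have hq2 : 2 ≤ q := Fintype.one_lt_card
  have hσ : ∀ x, σ x = x ^ q := fun x => rfl
  have hσf : ∀ a, σ (f a) = f a := fun a => (FiniteField.frobeniusAlgHom F K).commutes a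
  have hfix : ∀ x, σ x = x → ∃ y, f y = x := fun x hx => Homocyclic.exists_eq_of_pow_eq f x ((hσ x).symm.trans hx)
  have h2K : (2 : K) ≠ 0 := by
    rw [← map_ofNat f 2]; exact (map_ne_zero f).2 h2F
  have hsq : ∀ x : K, ∃ c, c * c = x := fun x => by
    obtain ⟨c, hc⟩ := IsAlgClosed.exists_pow_nat_eq x (n := 2) (by norm_num)
    exact ⟨c, by rw [← hc, sq]⟩
  have hnorm : ∀ x : K, ∃ c, c * σ c = x := fun x => by
    obtain ⟨c, hc⟩ := IsAlgClosed.exists_pow_nat_eq x (n := q + 1) (by omega)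
    exact ⟨c, by rw [hσ, ← hc, pow_succ']⟩
  obtain ⟨g0, hg0, L, t, hL, ht, e0, hw⟩ := exists_monomial hh p hp2 hu h2
  set U := glMap D f u with hU
  have hσU : glMap D σ U = U := by
    rw [hU, glMap_glMap, show σ.comp f = f from RingHom.ext fun a => hσf a]
  have hGmem : glMap D f g0 ∈ D.group K := glMap_group_le f (Subgroup.mem_map_of_mem _ hg0)
  have hσg0 : glMap D σ (glMap D f g0) = glMap D f g0 := by
    rw [glMap_glMap, show σ.comp f = f from RingHom.ext fun a => hσf a]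
  obtain ⟨g, hg, hT, p1, hp1, hp12⟩ := exists_torus hh hs σ h2K hsq hσU _ (glMap D f g0) (wperm h L) 1 rfl hGmem
    (by
      have := (show IsMono h (t * nProd h F L) (wperm h L) from ⟨L, t, hL, ht, rfl, rfl⟩).map hh f
      rwa [← e0, map_mul, map_mul, map_inv] at this)
    hw (by rw [hσg0, mul_inv_cancel]; exact isMono_one _) (one_mul 1) (fun γ _ => rfl)
  -- the torus element is a sign element
  obtain ⟨a, ha, ea⟩ : ∃ a ∈ CW D (ZMod 2), g * U * g⁻¹ = tor (z2 K) (Multiplicative.ofAdd a) := by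
    rw [hh.diagonalSubgroup_eq] at hT
    obtain ⟨c, hc⟩ := hT
    have hc2 : torusHom D K (c * c) = 1 := by
      rw [map_mul, hc, show g * U * g⁻¹ * (g * U * g⁻¹) = g * (U * U) * g⁻¹ by group, hU, ← map_mul, h2, map_one,
        mul_one, mul_inv_cancel]
    have hk := (h.torusHom_eq_one_iff _).1 hc2
    have hone : (fun i : Fin D.rank => (c * c) i.val) = 1 := by
      have := congrArg (zpowMap Kˣ B) hk
      rwa [map_one, ← zpowMap_mul, hB, zpowMap_one] at this
    refine ⟨Homocyclic.iota D (ZMod 2) (fun i => if c i.val = 1 then 0 else 1), ⟨_, rfl⟩, ?_⟩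
    rw [Homocyclic.tor_iota, ← hc]
    refine torusHom_congr fun i hi => ?_
    have e := congrFun hone ⟨i, hi⟩
    simp only [Pi.mul_apply, Pi.one_apply] at e
    rw [zcoord, dif_pos hi]
    by_cases hci : c i = 1
    · rw [if_pos hci, ofAdd_zero, map_one, hci]
    · rw [if_neg hci]
      have : (c i : K) * (c i : K) = 1 := by rw [← Units.val_mul, e, Units.val_one]
      rcases mul_self_eq_one_iff.1 this with e' | e'
      · exact absurd (Units.ext e') hci
      · refine Units.ext ?_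
        rw [e']
        simp [z2, ZMod.val_one]
  have ha0 : a ≠ 0 := by
    rintro rfl
    rw [ofAdd_zero, map_one, conj_eq_one_iff] at ea
    exact h1 (glMap_injective f (ea.trans (map_one _).symm))
  obtain ⟨g', hg', ea', hTe⟩ := exists_untwisted hh hs σ h2K hnorm ha (hroot a ha ha0) hσU _ g p1 rfl hg ea hp1 hp12
  -- make the conjugating element fixed
  rw [hh.diagonalSubgroup_eq] at hTe
  obtain ⟨c, hc⟩ := hTe
  have hd : ∀ i, ∃ d : Kˣ, (d : K) ^ (q - 1) = ((c i)⁻¹ : Kˣ) := fun i => by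
    obtain ⟨d, hd⟩ := IsAlgClosed.exists_pow_nat_eq (((c i)⁻¹ : Kˣ) : K) (n := q - 1) (by omega)
    have hd0 : d ≠ 0 := by
      rintro rfl
      rw [zero_pow (by omega)] at hd
      exact ((c i)⁻¹).ne_zero hd.symm
    exact ⟨Units.mk0 d hd0, hd⟩
  choose d hd using hd
  set td := torusHom D K d with htd
  have htdT : td ∈ D.diagonalSubgroup K := by rw [hh.diagonalSubgroup_eq]; exact ⟨d, rfl⟩
  have hσd : glMap D σ td = torusHom D K (d * c⁻¹) := by
    rw [htd, glMap_torusHom]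
    congr 1
    funext i
    refine Units.ext ?_
    rw [Pi.mul_apply, Pi.inv_apply, Units.val_mul, ← hd i]
    show σ (d i : K) = _
    rw [hσ, ← pow_succ', Nat.sub_add_cancel (by omega)]
  have hfixed : glMap D σ (td * g') = td * g' := by
    rw [map_mul, hσd, show glMap D σ g' = torusHom D K c * g' by rw [hc]; group, ← mul_assoc, ← map_mul,
      inv_mul_cancel_right]
  obtain ⟨g1, hg1, e1⟩ := exists_of_fixed hh
    (fun j k => if hjk : j < D.rank ∧ k < D.rank then B ⟨j, hjk.1⟩ ⟨k, hjk.2⟩ else 0) 1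
    (fun i hi k hk => by
      have e := congrFun (congrFun hB ⟨i, hi⟩) ⟨k, hk⟩
      simp only [Matrix.mul_apply, Matrix.one_apply, Fin.ext_iff] at e
      rw [← e, ← List.sum_toFinset _ (List.nodup_range), List.toFinset_range, Finset.sum_range]
      refine Finset.sum_congr rfl fun j _ => ?_
      rw [dif_pos ⟨j.2, hk⟩, h.cartan_simple hi j.2]
      rfl)
    (fun x hx => by rwa [zpow_one] at hx) f σ hfix (mul_mem (hh.diagonal_le_group htdT) hg') hfixed
  refine ⟨a, ha, ha0, g1, hg1, glMap_injective f ?_⟩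
  rw [glMap_tor, map_mul, map_mul, map_inv, e1, ← hU]
  have htT := Homocyclic.tor_mem (z := z2 K) h hh ha
  calc td * g' * U * (td * g')⁻¹ = td * (g' * U * g'⁻¹) * td⁻¹ := by group
    _ = _ := by rw [ea', hh.diagonal_commute htdT htT, mul_inv_cancel_right]

end Cfsg.Agent.Lib.H59.Invol
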