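import Cfsg.Agent.Lib.H59.Invol.Centralizer

/-!
Two classes of involutions, with the orders of their centralisers.
-/

set_option autoImplicit false

namespace Cfsg.Agent.Lib.H59.Invol

open Cfsg.Lie Cfsg.Agent.Lib.Chev
open Cfsg.Agent.Lib.H59.Homocyclic (srootF act tor CW)
open scoped Matrix

variable {D : ChevalleyDatum} {C : Cert}

/-- The two orbits exhaust the nonzero coweights modulo two. -/
def chkCover (D : ChevalleyDatum) (c c' : ClassCert) : Bool :=
  decide (c.orb ++ c'.orb).Nodup &&
    ((c.orb ++ c'.orb).all fun μ => decide (μ ≠ List.replicate D.rank (0 : ℤ))) &&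
    Nat.beq ((c.orb ++ c'.orb).length + 1) (2 ^ D.rank)

section Orbit

variable (hh : Rooted D C) {os : List OrbitCert} {c : ClassCert} (hc : ClassOK D C os c)
include hh hc

theorem orb_spec : (∀ μ ∈ c.orb, μ.length = D.rank ∧ ∀ z ∈ μ, z = 0 ∨ z = 1) ∧
    ∀ μ ∈ c.orb, ∃ w ∈ weyl hh.toChecked (Finset.range D.rank),
      act w (av D C (funv D c.node)) = av D C μ := by
  have h := hh.toChecked
  have ho := hc.orb_ok
  simp only [chkOrb, Bool.and_eq_true, allN_iff, Nat.blt_eq, beq_iff_eq, decide_eq_true_iff, List.all_eq_true,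
    natBeq_iff, Nat.ble_eq, Bool.or_eq_true] at ho
  obtain ⟨⟨⟨⟨⟨hhd, hnd⟩, hlen⟩, -⟩, hpar⟩, hsz⟩ := ho
  refine ⟨fun μ hμ => hlen μ hμ, fun μ hμ => ?_⟩
  obtain ⟨m, hm, rfl⟩ := List.mem_iff_getElem.1 hμ
  clear hμ
  induction m using Nat.strong_induction_on with
  | _ m ih =>
    rcases m with _ | m
    · refine ⟨1, one_mem _, ?_⟩
      rw [List.head?_eq_getElem?, List.getElem?_eq_getElem hm] at hhd
      rw [Homocyclic.act_one, Option.some.inj hhd]
    · obtain ⟨⟨hple, hpi⟩, e⟩ := hpar m (by omega)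
      set pe := c.parent.getD m (0, 0) with hpe
      obtain ⟨w, hw, ew⟩ := ih pe.1 (by omega) (by omega)
      rw [List.getD_eq_getElem _ _ hm, List.getD_eq_getElem _ _ (show pe.1 < c.orb.length by omega)] at e
      exact ⟨sigma h pe.2 * w, mul_mem (h.sigma_mem_weyl (Finset.mem_range.2 hpi)) hw, by
        rw [Homocyclic.act_mul, ew, act_av h hpi, e, av_red h]⟩

theorem negated_of_orbit (hos : chkChain D C (List.range D.rank) os = true)
    {x : Equiv.Perm (Fin D.nroots)} (hx : x ∈ weyl hh.toChecked (Finset.range D.rank))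
    {p : Equiv.Perm (Fin D.nroots)} (hp : p ∈ weyl hh.toChecked (Finset.range D.rank)) (h2 : p * p = 1) (h1 : p ≠ 1)
    (hpa : act p (act x (av D C (funv D c.node))) = act x (av D C (funv D c.node))) :
    ∃ β, act x (av D C (funv D c.node)) β = 0 ∧ p β = ngF D β := by
  obtain ⟨β, hβ0, hβ⟩ := exists_negated_stab hh hc hos (v := x⁻¹ * p * x)
    ((mem_stab hh).2 ⟨mul_mem (mul_mem (inv_mem hx) hp) hx, by
      rw [Homocyclic.act_mul, Homocyclic.act_mul, hpa, ← Homocyclic.act_mul, inv_mul_cancel, Homocyclic.act_one]⟩)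
    (by
      calc x⁻¹ * p * x * (x⁻¹ * p * x) = x⁻¹ * (p * p) * x := by group
        _ = 1 := by rw [h2]; group)
    (fun e => h1 (by
      calc p = x * (x⁻¹ * p * x) * x⁻¹ := by group
        _ = 1 := by rw [e]; group))
  refine ⟨x β, by rw [Homocyclic.act_apply, perm_symm_apply]; exact hβ0, ?_⟩
  have := congrArg x hβ
  rwa [Equiv.Perm.mul_apply, Equiv.Perm.mul_apply, perm_apply_symm, hh.toChecked.weyl_neg hx] at this

end Orbit

theorem exists_orbit (hh : Rooted D C) {os : List OrbitCert} {c c' : ClassCert} (hc : ClassOK D C os c)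
    (hc' : ClassOK D C os c') (hcov : chkCover D c c' = true)
    {a : Fin D.nroots → ZMod 2} (ha : a ∈ CW D (ZMod 2)) (h0 : a ≠ 0) :
    (∃ w ∈ weyl hh.toChecked (Finset.range D.rank), act w (av D C (funv D c.node)) = a) ∨
      ∃ w ∈ weyl hh.toChecked (Finset.range D.rank), act w (av D C (funv D c'.node)) = a := by
  classical
  have h := hh.toChecked
  simp only [chkCover, Bool.and_eq_true, decide_eq_true_iff, List.all_eq_true, natBeq_iff] at hcov
  obtain ⟨⟨hnd, hnz⟩, hlen⟩ := hcov
  obtain ⟨μ, hμl, hμ1, rfl⟩ := exists_av h ha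
  let f : (Fin D.rank → Bool) → List ℤ := fun v => List.ofFn fun j => if v j then 1 else 0
  have hf : ∀ ν : List ℤ, ν.length = D.rank → (∀ z ∈ ν, z = 0 ∨ z = 1) → ν ∈ Finset.univ.image f := by
    intro ν hl h1
    refine Finset.mem_image.2 ⟨fun j => decide (ν.getD j.val 0 = 1), Finset.mem_univ _, ?_⟩
    refine List.ext_getElem (by simp [f, hl]) fun j hj1 hj2 => ?_
    simp only [f, List.getElem_ofFn, List.getD_eq_getElem _ _ hj2, decide_eq_true_iff]
    rcases h1 _ (List.getElem_mem hj2) with e | e <;> simp [e]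
  set z0 : List ℤ := List.replicate D.rank 0
  have hmem : μ ∈ c.orb ++ c'.orb := by
    have hsub : (c.orb ++ c'.orb).toFinset ⊆ (Finset.univ.image f).erase z0 := by
      intro ν hν
      rw [List.mem_toFinset] at hν
      refine Finset.mem_erase.2 ⟨hnz ν hν, ?_⟩
      rcases List.mem_append.1 hν with hν' | hν'
      · exact hf ν ((orb_spec hh hc).1 ν hν').1 ((orb_spec hh hc).1 ν hν').2
      · exact hf ν ((orb_spec hh hc').1 ν hν').1 ((orb_spec hh hc').1 ν hν').2
    have heq := Finset.eq_of_subset_of_card_le hsub (by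
      rw [Finset.card_erase_of_mem (hf z0 (by simp [z0]) (fun z hz => Or.inl (List.eq_of_mem_replicate hz))),
        List.toFinset_card_of_nodup hnd]
      have h1 : (Finset.univ.image f).card ≤ 2 ^ D.rank := by
        refine Finset.card_image_le.trans ?_
        rw [Finset.card_univ, Fintype.card_fun, Fintype.card_bool, Fintype.card_fin]
      omega)
    rw [← List.mem_toFinset, heq]
    refine Finset.mem_erase.2 ⟨?_, hf μ hμl hμ1⟩
    rintro rfl
    refine h0 (funext fun r => ?_)
    simp only [av, h.dotv_eq, Pi.zero_apply]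
    rw [Finset.sum_eq_zero, Int.cast_zero]
    intro j hj
    simp [z0, List.getD_eq_getElem?_getD, List.getElem?_replicate, Finset.mem_range.1 hj]
  rcases List.mem_append.1 hmem with hm | hm
  · exact Or.inl ((orb_spec hh hc).2 μ hm)
  · exact Or.inr ((orb_spec hh hc').2 μ hm)

theorem prod_not_dvd {p q : ℕ} (hp : p.Prime) (hpq : p ∣ q) (hq : 0 < q) {ds : List ℕ} (hds : ∀ d ∈ ds, 0 < d) :
    ¬ p ∣ (ds.map fun d => q ^ d - 1).prod := by
  intro h
  obtain ⟨x, hx, hdvd⟩ := hp.prime.dvd_prod_iff.1 h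
  obtain ⟨d, hd, rfl⟩ := List.mem_map.1 hx
  have h2 : p ∣ q ^ d := dvd_pow hpq (Nat.pos_iff_ne_zero.1 (hds d hd))
  have := Nat.dvd_sub h2 hdvd
  rw [Nat.sub_sub_self (Nat.one_le_pow _ _ hq)] at this
  exact hp.not_dvd_one this

/-- The two classes. -/
theorem two_classes (hh : Rooted D C) (hsg : Twisted.chkEtaSigns D C = true) {os : List OrbitCert}
    (hos : chkChain D C (List.range D.rank) os = true) {sd : List ℕ} (hsm : SmithOK D C sd)
    (hsd : ∀ i < D.rank, sd.getD i 0 = 1) {c c' : ClassCert} (hc : ClassOK D C os c) (hc' : ClassOK D C os c')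
    (hcov : chkCover D c c' = true) {ds ds' : List ℕ} (hp : chkPolyC D C c ds = true)
    (hp' : chkPolyC D C c' ds' = true) (hds : ∀ d ∈ ds, 0 < d) (hds' : ∀ d ∈ ds', 0 < d) {e e' : ℕ}
    (he : evenCount D C c.node = e) (he' : evenCount D C c'.node = e') (hne : e ≠ e')
    {F : Type*} [Field F] [Fintype F] (hF : Odd (Fintype.card F)) :
    ∃ s t : ↥(D.group F), orderOf s = 2 ∧ orderOf t = 2 ∧ ¬ IsConj s t ∧
      (∀ u : ↥(D.group F), orderOf u = 2 → IsConj u s ∨ IsConj u t) ∧
      Nat.card (Subgroup.centralizer ({s} : Set ↥(D.group F))) =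
        Fintype.card F ^ e * (ds.map fun d => Fintype.card F ^ d - 1).prod ∧
      Nat.card (Subgroup.centralizer ({t} : Set ↥(D.group F))) =
        Fintype.card F ^ e' * (ds'.map fun d => Fintype.card F ^ d - 1).prod := by
  classical
  have h := hh.toChecked
  obtain ⟨B, hB, -⟩ := Homocyclic.exists_cmMat_inverse hsm hsd
  obtain ⟨p, hpc⟩ := CharP.exists F
  haveI := hpc
  haveI : Fact p.Prime := ⟨CharP.char_is_prime F p⟩
  obtain ⟨f, -, hq⟩ := FiniteField.card F p
  have h2F : (2 : F) ≠ 0 := fun e => by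
    have h2 : p = 2 := (Nat.prime_dvd_prime_iff_eq Fact.out Nat.prime_two).1
      ((CharP.cast_eq_zero_iff F p 2).1 (by exact_mod_cast e))
    exact (Nat.not_even_iff_odd.2 hF) (by rw [hq, h2]; exact (Nat.even_pow' f.ne_zero).2 even_two)
  have hmem : ∀ k, tor (z2 F) (Multiplicative.ofAdd (av D C (funv D k))) ∈ D.group F := fun k =>
    hh.diagonal_le_group (Homocyclic.tor_mem h hh (av_mem h hB _))
  set s : ↥(D.group F) := ⟨_, hmem c.node⟩ with hs
  set t : ↥(D.group F) := ⟨_, hmem c'.node⟩ with ht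
  have hord : ∀ k, k < D.rank → orderOf (⟨_, hmem k⟩ : ↥(D.group F)) = 2 := by
    intro k hk
    refine orderOf_eq_prime ?_ fun e1 => ?_
    · refine Subtype.ext ?_
      simp only [SubmonoidClass.coe_pow, OneMemClass.coe_one]
      rw [← map_pow, show Multiplicative.ofAdd (av D C (funv D k)) ^ 2 = 1 from Multiplicative.toAdd.injective
        (funext fun r => by
          simp only [toAdd_pow, toAdd_ofAdd, toAdd_one, Pi.smul_apply, Pi.zero_apply]
          generalize av D C (funv D k) r = z
          revert z; decide), map_one]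
    · have e2 : tor (D := D) (z2 F) (Multiplicative.ofAdd (av D C (funv D k))) = tor (z2 F) 1 :=
        (congrArg Subtype.val e1).trans (map_one _).symm
      have e3 := congrFun (congrArg Multiplicative.toAdd (Homocyclic.tor_injective (z2_injective h2F) e2))
        (srootF h hk)
      rw [toAdd_ofAdd, toAdd_one, Pi.zero_apply, av_funv h hk,
        show ((srootF h hk : Fin D.nroots) : ℕ) = D.simple k from rfl, (h.simple_tab hk hk).2.1] at e3
      simp at e3
  have hcard := card_centralizer hh hB h2F hc hos hsm hsd hp (hmem c.node)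
  have hcard' := card_centralizer hh hB h2F hc' hos hsm hsd hp' (hmem c'.node)
  rw [he] at hcard
  rw [he'] at hcard'
  refine ⟨s, t, hord _ (node_lt hh hc), hord _ (node_lt hh hc'), fun hconj => hne ?_, fun u hu => ?_, hcard, hcard'⟩
  · obtain ⟨g, hg⟩ := isConj_iff.1 hconj
    have ecard : Nat.card (Subgroup.centralizer ({s} : Set ↥(D.group F))) =
        Nat.card (Subgroup.centralizer ({t} : Set ↥(D.group F))) := by
      refine Nat.card_congr ((MulAut.conj g).toEquiv.subtypeEquiv fun a => ?_)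
      simp only [MulEquiv.toEquiv_eq_coe, MulEquiv.coe_toEquiv, MulAut.conj_apply,
        Subgroup.mem_centralizer_singleton_iff, ← hg]
      constructor
      · intro e
        calc g * a * g⁻¹ * (g * s * g⁻¹) = g * (a * s) * g⁻¹ := by group
          _ = g * (s * a) * g⁻¹ := by rw [e]
          _ = _ := by group
      · intro e
        calc a * s = g⁻¹ * (g * a * g⁻¹ * (g * s * g⁻¹)) * g := by group
          _ = g⁻¹ * (g * s * g⁻¹ * (g * a * g⁻¹)) * g := by rw [e]
          _ = _ := by group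
    rw [hcard, hcard'] at ecard
    have hq0 : 0 < Fintype.card F := Fintype.card_pos
    have hpq : p ∣ Fintype.card F := by rw [hq]; exact dvd_pow_self p f.ne_zero
    have hn1 := prod_not_dvd Fact.out hpq hq0 hds
    have hn2 := prod_not_dvd Fact.out hpq hq0 hds'
    have e1 := congrArg (fun n : ℕ => n.factorization p) ecard
    rw [Nat.factorization_mul (pow_ne_zero _ hq0.ne') (fun e0 => hn1 (by rw [e0]; exact dvd_zero p)),
      Nat.factorization_mul (pow_ne_zero _ hq0.ne') (fun e0 => hn2 (by rw [e0]; exact dvd_zero p)),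
      Finsupp.add_apply, Finsupp.add_apply,
      Nat.factorization_eq_zero_of_not_dvd hn1, Nat.factorization_eq_zero_of_not_dvd hn2, Nat.factorization_pow,
      Nat.factorization_pow, Finsupp.smul_apply, Finsupp.smul_apply] at e1
    have hpos : 0 < (Fintype.card F).factorization p :=
      (Fact.out : p.Prime).factorization_pos_of_dvd hq0.ne' hpq
    simp only [add_zero, smul_eq_mul] at e1
    exact Nat.eq_of_mul_eq_mul_right hpos e1
  · have h2 : (u : GL D.Idx F) * (u : GL D.Idx F) = 1 := by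
      have := pow_orderOf_eq_one u
      rw [hu, sq] at this
      exact congrArg Subtype.val this
    have h1 : (u : GL D.Idx F) ≠ 1 := fun e => by
      rw [show u = 1 from Subtype.ext e, orderOf_one] at hu
      omega
    obtain ⟨a, ha, ha0, g, hg, eg⟩ := exists_conj_tor hh hsg hF hB (fun a ha ha0 p hpW hp2 hp1 hpa => by
      rcases exists_orbit hh hc hc' hcov ha ha0 with ⟨x, hx, rfl⟩ | ⟨x, hx, rfl⟩
      · exact negated_of_orbit hh hc hos hx hpW hp2 hp1 hpa
      · exact negated_of_orbit hh hc' hos hx hpW hp2 hp1 hpa) u.2 h2 h1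
    have key : ∀ k, ∀ w ∈ weyl h (Finset.range D.rank), act w (av D C (funv D k)) = a →
        IsConj u ⟨_, hmem k⟩ := by
      intro k w hw ew
      obtain ⟨L, hL, rfl⟩ := h.exists_word_of_weyl hw
      have hn : IsMono hh.toChecked (nProd hh.toChecked F L) (wperm h L) := isMono_nProd h hL
      have e2 := hn.conj_tor hh (z := z2 F) (av_mem h hB (funv D k))
      rw [ew, ← eg] at e2
      refine isConj_iff.2 ⟨⟨(nProd hh.toChecked F L)⁻¹ * g, mul_mem (inv_mem (hn.mem_group hh)) hg⟩, Subtype.ext ?_⟩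
      simp only [Subgroup.coe_mul, Subgroup.coe_inv]
      calc (nProd hh.toChecked F L)⁻¹ * g * u * ((nProd hh.toChecked F L)⁻¹ * g)⁻¹
          = (nProd hh.toChecked F L)⁻¹ * (g * u * g⁻¹) * nProd hh.toChecked F L := by group
        _ = _ := by rw [← e2]; group
    rcases exists_orbit hh hc hc' hcov ha ha0 with ⟨w, hw, ew⟩ | ⟨w, hw, ew⟩
    · exact Or.inl (key _ w hw ew)
    · exact Or.inr (key _ w hw ew)

end Cfsg.Agent.Lib.H59.Invol
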