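import Cfsg.Agent.Lib.Chev.SL2Hom
import Cfsg.Agent.Lib.Chev.Poincare
import Cfsg.Agent.Lib.ChevField.Fixed
import Cfsg.Agent.Lib.ChevCent.Lemmas
import Cfsg.Agent.Lib.H59.Homocyclic.Torus

/-!
Monomial elements with their Weyl group component, and the rank one subgroup of a fundamental root.
-/

set_option autoImplicit false

namespace Cfsg.Agent.Lib.H59.Invol

open Cfsg.Lie Cfsg.Agent.Lib.Chev Cfsg.Agent.Lib.ChevField
open Cfsg.Agent.Lib.ChevCent (xg)
open Cfsg.Agent.Lib.H59.Homocyclic (srootF act tor)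
open scoped Matrix MatrixGroups

variable {D : ChevalleyDatum} {C : Cert} {F : Type*} [Field F]

/-- A monomial element lying over the permutation `w` of the roots. -/
def IsMono (h : Checked D C) (g : GL D.Idx F) (w : Equiv.Perm (Fin D.nroots)) : Prop :=
  ∃ (L : List ℕ) (t : GL D.Idx F), IsWord D L ∧ t ∈ D.diagonalSubgroup F ∧ g = t * nProd h F L ∧ wperm h L = w

theorem isMono_diag (h : Checked D C) {t : GL D.Idx F} (ht : t ∈ D.diagonalSubgroup F) :
    IsMono h t (1 : Equiv.Perm (Fin D.nroots)) :=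
  ⟨[], t, List.forall_mem_nil _, ht, by simp [nProd], wperm_nil h⟩

theorem isMono_one (h : Checked D C) : IsMono h (1 : GL D.Idx F) 1 := isMono_diag h (one_mem _)

theorem isMono_nProd (h : Checked D C) {L : List ℕ} (hL : IsWord D L) :
    IsMono h (nProd h F L) (wperm h L) :=
  ⟨L, 1, hL, one_mem _, (one_mul _).symm, rfl⟩

theorem IsMono.mem_weyl {h : Checked D C} {g : GL D.Idx F} {w : Equiv.Perm (Fin D.nroots)}
    (hg : IsMono h g w) : w ∈ weyl h (Finset.range D.rank) := by
  obtain ⟨L, -, hL, -, -, rfl⟩ := hg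
  exact h.mem_weyl_of_word hL

theorem IsMono.map {h : Checked D C} (hh : Rooted D C) {K : Type*} [Field K] (f : F →+* K) {g : GL D.Idx F}
    {w : Equiv.Perm (Fin D.nroots)} (hg : IsMono h g w) : IsMono h (glMap D f g) w := by
  obtain ⟨L, t, hL, ht, rfl, e⟩ := hg
  exact ⟨L, glMap D f t, hL, glMap_diagonal hh f ht, by rw [map_mul, glMap_nProd], e⟩

section Rooted

variable (hh : Rooted D C)
include hh

theorem IsMono.mul {g g' : GL D.Idx F} {w w' : Equiv.Perm (Fin D.nroots)} (hg : IsMono hh.toChecked g w)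
    (hg' : IsMono hh.toChecked g' w') : IsMono hh.toChecked (g * g') (w * w') := by
  obtain ⟨L, t, hL, ht, rfl, rfl⟩ := hg
  obtain ⟨L', t', hL', ht', rfl, rfl⟩ := hg'
  obtain ⟨s, hs, e⟩ := hh.nProd_conj_diag hL ht'
  refine ⟨L ++ L', t * s, hL.append hL', mul_mem ht hs, ?_, wperm_append _ L L'⟩
  rw [nProd_append, mul_assoc t, ← mul_assoc (nProd hh.toChecked F L), e]
  group

theorem IsMono.inv {g : GL D.Idx F} {w : Equiv.Perm (Fin D.nroots)} (hg : IsMono hh.toChecked g w) :
    IsMono hh.toChecked g⁻¹ w⁻¹ := by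
  have h := hh.toChecked
  obtain ⟨L, t, hL, ht, rfl, rfl⟩ := hg
  have hrev : IsWord D L.reverse := fun i hi => hL i (List.mem_reverse.1 hi)
  have hd : nProd hh.toChecked F L.reverse * nProd hh.toChecked F L ∈ D.diagonalSubgroup F := by
    rw [← nProd_append]
    refine hh.nProd_mem_diag_of_pos (hrev.append hL) fun r hp hr => ?_
    rwa [perm_append, h.perm_reverse hL hr]
  have hm : IsMono hh.toChecked (nProd hh.toChecked F L)⁻¹ (wperm hh.toChecked L.reverse) :=
    ⟨L.reverse, (nProd hh.toChecked F L.reverse * nProd hh.toChecked F L)⁻¹, hrev, inv_mem hd, by group, rfl⟩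
  have e : wperm hh.toChecked L.reverse = (wperm hh.toChecked L)⁻¹ := by
    refine eq_inv_of_mul_eq_one_left (Equiv.ext fun r => Fin.ext ?_)
    rw [Equiv.Perm.mul_apply, Equiv.Perm.one_apply, h.wperm_val hrev, h.wperm_val hL, h.perm_reverse hL r.2]
  rw [e] at hm
  have := hm.mul hh (isMono_diag hh.toChecked (inv_mem ht))
  rwa [mul_one, ← mul_inv_rev] at this

theorem IsMono.unique {g : GL D.Idx F} {w w' : Equiv.Perm (Fin D.nroots)} (hg : IsMono hh.toChecked g w)
    (hg' : IsMono hh.toChecked g w') : w = w' := by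
  obtain ⟨L, t, hL, ht, rfl, rfl⟩ := hg
  obtain ⟨L', t', hL', ht', e, rfl⟩ := hg'
  obtain ⟨s, hs, es⟩ := hh.diag_mul_nProd hL' (mul_mem (inv_mem ht) ht')
  refine (hh.wperm_eq_of_diag hL' hL (F := F) ?_)
  have : nProd hh.toChecked F L = nProd hh.toChecked F L' * s := by
    rw [← es, mul_assoc, ← e, inv_mul_cancel_left]
  rw [this, inv_mul_cancel_left]
  exact hs

theorem IsMono.conj {g n : GL D.Idx F} {w v : Equiv.Perm (Fin D.nroots)} (hn : IsMono hh.toChecked n v)
    (hg : IsMono hh.toChecked g w) : IsMono hh.toChecked (n * g * n⁻¹) (v * w * v⁻¹) :=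
  (hn.mul hh hg).mul hh (hn.inv hh)

/-- A monomial element permutes the root groups. -/
theorem IsMono.conj_xg {g : GL D.Idx F} {w : Equiv.Perm (Fin D.nroots)} (hg : IsMono hh.toChecked g w) :
    ∃ k : Fin D.nroots → Fˣ, (∀ r, k (ngF D r) = (k r)⁻¹) ∧
      ∀ (r : Fin D.nroots) (a : F), g * xg hh.toChecked r.val a * g⁻¹ = xg hh.toChecked (w r).val ((k r : F) * a) := by
  have h := hh.toChecked
  obtain ⟨L, t, hL, ht, rfl, rfl⟩ := hg
  rw [hh.diagonalSubgroup_eq] at ht
  obtain ⟨c, rfl⟩ := ht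
  let ε : ℕ → Fˣ := fun r => if weta C L r = 1 then 1 else -1
  have hε : ∀ r, (ε r : F) = (weta C L r : F) := fun r => by
    rcases weta_cases (C := C) L r with e | e <;> simp [ε, e]
  refine ⟨fun r => torusFun D c (perm C L r.val) * ε r.val, fun r => ?_, fun r a => ?_⟩
  · have hw : weta C L (ng D r.val) = weta C L r.val := by
      clear hε
      induction L with
      | nil => rfl
      | cons j L ih =>
        simp only [weta]
        rw [ih hL.cons.2, h.perm_ng hL.cons.2 r.2, h.eta_ng hL.cons.1 (h.perm_lt hL.cons.2 r.2)]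
    have hT : torusFun D c (ng D (perm C L r.val)) = (torusFun D c (perm C L r.val))⁻¹ := by
      simp only [torusFun, ← Finset.prod_inv_distrib]
      refine Finset.prod_congr rfl fun i hi => ?_
      rw [h.cartan_ng (Finset.mem_range.1 hi) (h.perm_lt hL r.2), zpow_neg]
    have hεi : ε (ng D r.val) = (ε r.val)⁻¹ := by
      simp only [ε, hw]
      split_ifs <;> simp
    show torusFun D c (perm C L (ng D r.val)) * ε (ng D r.val) = _
    rw [h.perm_ng hL r.2, hT, hεi, mul_inv_rev, mul_comm]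
  · have e1 : nProd hh.toChecked F L * xg hh.toChecked r.val a =
        xg hh.toChecked (perm C L r.val) ((weta C L r.val : F) * a) * nProd hh.toChecked F L := by
      refine Units.ext ?_
      rw [Units.val_mul, Units.val_mul, ChevCent.coe_xg, ChevCent.coe_xg]
      exact h.nProd_mul_x hL r.2 a
    have e2 : ∀ b : F, torusHom D F c * xg hh.toChecked (perm C L r.val) b * (torusHom D F c)⁻¹ =
        xg hh.toChecked (perm C L r.val) ((torusFun D c (perm C L r.val) : F) * b) := fun b => by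
      have hr := h.perm_lt hL r.2
      simp only [xg, dif_pos hr]
      exact h.conj_x hr b
    rw [h.wperm_val hL, Units.val_mul, hε, mul_assoc (torusFun D c (perm C L r.val) : F), ← e2]
    calc torusHom D F c * nProd hh.toChecked F L * xg hh.toChecked r.val a *
          (torusHom D F c * nProd hh.toChecked F L)⁻¹
        = torusHom D F c * (nProd hh.toChecked F L * xg hh.toChecked r.val a) *
            (nProd hh.toChecked F L)⁻¹ * (torusHom D F c)⁻¹ := by group
      _ = _ := by rw [e1]; group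

theorem IsMono.conj_tor {m : ℕ} {z : Multiplicative (ZMod m) →* Fˣ} {g : GL D.Idx F}
    {w : Equiv.Perm (Fin D.nroots)} (hg : IsMono hh.toChecked g w) {f : Fin D.nroots → ZMod m}
    (hf : f ∈ Homocyclic.CW D (ZMod m)) :
    g * tor z (Multiplicative.ofAdd f) * g⁻¹ = tor z (Multiplicative.ofAdd (act w f)) := by
  have h := hh.toChecked
  obtain ⟨L, t, hL, ht, rfl, rfl⟩ := hg
  have e := Homocyclic.nProd_conj_tor (K := F) (z := z) h hL f
  have hd : tor z (Multiplicative.ofAdd (act (wperm h L) f)) ∈ D.diagonalSubgroup F :=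
    Homocyclic.tor_mem h hh (Homocyclic.act_mem h (h.mem_weyl_of_word hL) hf)
  calc t * nProd hh.toChecked F L * tor z (Multiplicative.ofAdd f) * (t * nProd hh.toChecked F L)⁻¹
      = t * (nProd hh.toChecked F L * tor z (Multiplicative.ofAdd f)) * (nProd hh.toChecked F L)⁻¹ * t⁻¹ := by group
    _ = t * tor z (Multiplicative.ofAdd (act (wperm h L) f)) * t⁻¹ := by rw [e]; group
    _ = _ := by rw [hh.diagonal_commute ht hd, mul_inv_cancel_right]

end Rooted

/-- The antidiagonal matrix. -/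
def antid (c : F) : SL(2, F) :=
  RankOneData.upper c * RankOneData.lower (-c⁻¹) * RankOneData.upper c

/-- The diagonal matrix. -/
def diag2 (a : F) : SL(2, F) := antid a * antid (-1)

theorem antid_entries {c : F} (hc : c ≠ 0) :
    antid c 0 0 = 0 ∧ antid c 0 1 = c ∧ antid c 1 0 = -c⁻¹ ∧ antid c 1 1 = 0 := by
  refine ⟨?_, ?_, ?_, ?_⟩ <;>
    simp [antid, RankOneData.mul_entry, RankOneData.upper_entries, RankOneData.lower_entries, hc]

theorem diag2_entries {a : F} (ha : a ≠ 0) :
    diag2 a 0 0 = a ∧ diag2 a 0 1 = 0 ∧ diag2 a 1 0 = 0 ∧ diag2 a 1 1 = a⁻¹ := by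
  obtain ⟨a00, a01, a10, a11⟩ := antid_entries ha
  obtain ⟨b00, b01, b10, b11⟩ := antid_entries (neg_ne_zero.2 (one_ne_zero (α := F)))
  refine ⟨?_, ?_, ?_, ?_⟩ <;> simp [diag2, RankOneData.mul_entry, a00, a01, a10, a11, b00, b01, b10, b11]

/-- The rank one subgroup of a fundamental root. -/
theorem exists_phi (hh : Rooted D C) (hs : Twisted.chkEtaSigns D C = true) {i : ℕ} (hi : i < D.rank) :
    ∃ φ : SL(2, F) →* GL D.Idx F,
      (∀ t : F, φ (RankOneData.upper t) = xg hh.toChecked (D.simple i) t ∧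
        φ (RankOneData.lower t) = xg hh.toChecked (ng D (D.simple i)) t) ∧
      (∀ g, φ g ∈ D.group F) ∧
      (∀ c : F, c ≠ 0 → IsMono hh.toChecked (φ (antid c)) (sigma hh.toChecked i)) ∧
      (∀ a : F, a ≠ 0 → φ (diag2 a) ∈ D.diagonalSubgroup F) := by
  have h := hh.toChecked
  have hr := h.simple_lt hi
  obtain ⟨φ, hrange, hφ⟩ := hh.hasSL2_simple (F := F) hs hi hr
  have hup : ∀ t : F, φ (RankOneData.upper t) = xg hh.toChecked (D.simple i) t ∧
      φ (RankOneData.lower t) = xg hh.toChecked (ng D (D.simple i)) t := fun t => by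
    simp only [xg, dif_pos hr, dif_pos (Checked.ng_lt hr)]
    exact hφ t
  have hsub : ∀ r < D.nroots, D.rootSubgroup F r ≤ D.group F := fun r hr' g hg => by
    obtain ⟨t, rfl⟩ := (h.rootSubgroup_mem_iff hr').1 hg
    exact Subgroup.subset_closure ⟨⟨r, hr'⟩, t, by rw [coe_xGL, ChevalleyDatum.x, dif_pos hr']⟩
  have hanti : ∀ c : F, ∀ hc : c ≠ 0,
      φ (antid c) = torusHom D F (Pi.mulSingle i (Units.mk0 c hc)) * nS hh.toChecked F i := by
    intro c hc
    refine Units.ext ?_
    have h1 := h.nMat_mul_nMat_neg (F := F) hr (-1 : F)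
    rw [neg_neg] at h1
    rw [antid, map_mul, map_mul, (hup _).1, (hup _).2, Units.val_mul, Units.val_mul, Units.val_mul,
      ChevCent.coe_xg, ChevCent.coe_xg, ← hh.hMat_simple_torus hi, coe_nS _ hi, Units.val_mk0, h.hMat_eq_mul,
      mul_assoc _ _ (D.nMat F (D.simple i) 1), h1, mul_one]
    simp only [ChevalleyDatum.nMat, ChevalleyDatum.nWord, ChevalleyDatum.wordMat, List.map_cons, List.map_nil,
      List.prod_cons, List.prod_nil, mul_one, h.neg_eq hr, mul_assoc]
  have hT : ∀ c : ℕ → Fˣ, torusHom D F c ∈ D.diagonalSubgroup F := fun c => by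
    rw [hh.diagonalSubgroup_eq]; exact ⟨c, rfl⟩
  have hmono : ∀ c : F, c ≠ 0 → IsMono hh.toChecked (φ (antid c)) (sigma hh.toChecked i) := fun c hc =>
    ⟨[i], torusHom D F (Pi.mulSingle i (Units.mk0 c hc)), by simpa [IsWord] using hi, hT _,
      by rw [hanti c hc]; simp [nProd], by simp [wperm]⟩
  refine ⟨φ, hup, fun g => ?_, hmono, fun a ha => ?_⟩
  · exact sup_le (hsub _ hr) (hsub _ (Checked.ng_lt hr)) (hrange ▸ ⟨g, rfl⟩ : φ g ∈ _)
  · have := (hmono a ha).mul hh (hmono (-1) (neg_ne_zero.2 one_ne_zero))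
    rw [h.sigma_sigma, ← map_mul] at this
    obtain ⟨L, t, hL, ht, e, eL⟩ := this
    show φ (diag2 a) ∈ _
    rw [diag2, e]
    refine mul_mem ht (hh.nProd_mem_diag_of_pos hL fun r hp hr' => ?_)
    have := h.wperm_val hL ⟨r, hr'⟩
    rw [eL, Equiv.Perm.one_apply] at this
    rw [← this]
    exact hp

end Cfsg.Agent.Lib.H59.Invol
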